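import Groth.Agent.PicPn.Chart
import Groth.Agent.PlaneCurve.Hyp

/-!
The two charts of the projective line, and `O(1)` on them.
-/

set_option autoImplicit false
set_option backward.isDefEq.respectTransparency false
set_option backward.isDefEq.respectTransparency.types false
set_option linter.style.haveILetI false

universe u

open CategoryTheory AlgebraicGeometry TopologicalSpace Polynomial
open Groth.Agent.QC (res resO res_res res_smul resO_resO)
open Groth.Agent.PicPn (P ch z X_mem)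

noncomputable section

namespace Groth.Agent.ExcCompl

variable (k : Type u) [Field k]

/-- The other index. -/
def oth (i : Fin 2) : Fin 2 := i + 1

theorem oth_ne (i : Fin 2) : oth i ≠ i := by fin_cases i <;> simp [oth]

/-- Constants on a chart. -/
def cst (i : Fin 2) : k →+* Γ(P 1 k, ch i) := (GrT.deh _ (X_mem i)).comp MvPolynomial.C

/-- Polynomials in the coordinate as functions on a chart. -/
def poly (i : Fin 2) : k[X] →+* Γ(P 1 k, ch i) := eval₂RingHom (cst k i) (z i (oth i))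

theorem poly_bijective (i : Fin 2) : Function.Bijective (poly k i) := by
  let φ : MvPolynomial (Fin 2) k →+* k[X] :=
    MvPolynomial.eval₂Hom Polynomial.C (fun j => if j = i then 1 else Polynomial.X)
  have hφ : φ (MvPolynomial.X i) = 1 := by simp [φ]
  have hψ : (poly k i).comp φ = GrT.deh _ (X_mem i) := by
    refine MvPolynomial.ringHom_ext (fun c => ?_) (fun j => ?_)
    · simp [φ, poly, cst]
    · by_cases h : j = i
      · subst h
        rw [RingHom.comp_apply, hφ, map_one, GrT.deh_self]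
      · obtain rfl : j = oth i := by
          fin_cases i <;> fin_cases j <;> simp_all [oth]
        simp [φ, poly, h, z]
  have hinv : (ProjMor.chartHom (X_mem i) φ hφ).comp (poly k i) = RingHom.id _ := by
    refine Polynomial.ringHom_ext (fun c => ?_) ?_
    · simp [poly, cst, ProjMor.chartHom_deh, φ]
    · simp [poly, z, ProjMor.chartHom_deh, φ, oth_ne]
  refine ⟨fun a b h => ?_, fun a => ?_⟩
  · have := congrArg (ProjMor.chartHom (X_mem i) φ hφ) h
    rwa [← RingHom.comp_apply, ← RingHom.comp_apply, hinv] at this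
  · obtain ⟨a, rfl⟩ := ProjMor.exists_deh_eq (X_mem i) a
    exact ⟨φ a, congr($hψ a)⟩

/-- The overlap. -/
abbrev ov : (P 1 k).Opens := ch 0 ⊓ ch 1

theorem cst_compat (c : k) : resO (P 1 k) (inf_le_left : ov k ≤ ch 0) (cst k 0 c) =
    resO (P 1 k) (inf_le_right : ov k ≤ ch 1) (cst k 1 c) := by
  have hc : (MvPolynomial.C c : MvPolynomial (Fin 2) k) ∈ CohB1.polyGrading 1 k 0 := MvPolynomial.isHomogeneous_C _ c
  refine GrT.pO_ext _ fun y => ?_
  have h1 : ∀ f : MvPolynomial (Fin 2) k, f ^ 0 ∉ y.1.asHomogeneousIdeal := fun f h => by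
    rw [pow_zero] at h
    exact y.1.isPrime.ne_top ((Ideal.eq_top_iff_one _).2 h)
  show GrT.pO _ (resO _ _ (GrT.deh _ (X_mem 0) (MvPolynomial.C c))) y =
    GrT.pO _ (resO _ _ (GrT.deh _ (X_mem 1) (MvPolynomial.C c))) y
  rw [GrT.pO_deh _ (X_mem 0) hc inf_le_left y (h1 _), GrT.pO_deh _ (X_mem 1) hc inf_le_right y (h1 _)]
  congr 1

/-- The coordinate `x₁/x₀` on the overlap. -/
def Z : Γ(P 1 k, ov k) := resO (P 1 k) inf_le_left (z 0 1)

/-- The coordinate `x₀/x₁` on the overlap. -/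
def W : Γ(P 1 k, ov k) := resO (P 1 k) inf_le_right (z 1 0)

theorem Z_mul_W : Z k * W k = 1 := by
  refine GrT.pO_ext _ fun y => ?_
  have h0 : (MvPolynomial.X 0 : MvPolynomial (Fin 2) k) ∉ y.1.asHomogeneousIdeal :=
    (ProjectiveSpectrum.mem_basicOpen _ _ y.1).mp y.2.1
  have h1 : (MvPolynomial.X 1 : MvPolynomial (Fin 2) k) ∉ y.1.asHomogeneousIdeal :=
    (ProjectiveSpectrum.mem_basicOpen _ _ y.1).mp y.2.2
  rw [GrT.pO_mul, Z, W, GrT.pO_deh _ (X_mem 0) (X_mem 1) inf_le_left y (by simpa using h0),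
    GrT.pO_deh _ (X_mem 1) (X_mem 0) inf_le_right y (by simpa using h1), GrT.pO_one, Localization.mk_mul,
    ← Localization.mk_one, Localization.mk_eq_mk_iff, Localization.r_iff_exists]
  exact ⟨1, by simp; ring⟩

/-- Constants on the overlap. -/
def cst₀₁ : k →+* Γ(P 1 k, ov k) := (resO (P 1 k) inf_le_left).comp (cst k 0)

theorem res_poly₀ (p : k[X]) : resO (P 1 k) (inf_le_left : ov k ≤ ch 0) (poly k 0 p) = p.eval₂ (cst₀₁ k) (Z k) := by
  show ((resO (P 1 k) (inf_le_left : ov k ≤ ch 0)).comp (poly k 0)) p = eval₂RingHom (cst₀₁ k) (Z k) p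
  congr 1
  refine Polynomial.ringHom_ext (fun c => ?_) ?_
  · simp [poly, cst₀₁]
  · simp [poly, Z, oth]

theorem res_poly₁ (p : k[X]) : resO (P 1 k) (inf_le_right : ov k ≤ ch 1) (poly k 1 p) = p.eval₂ (cst₀₁ k) (W k) := by
  show ((resO (P 1 k) (inf_le_right : ov k ≤ ch 1)).comp (poly k 1)) p = eval₂RingHom (cst₀₁ k) (W k) p
  congr 1
  refine Polynomial.ringHom_ext (fun c => ?_) ?_
  · simp [poly, cst₀₁, cst_compat]
  · simp [poly, W, oth]

theorem ov_eq : ov k = (P 1 k).basicOpen (z (k := k) (0 : Fin 2) 1) := PicPn.ch_inf 0 1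

theorem res₀_injective : Function.Injective fun p : k[X] => p.eval₂ (cst₀₁ k) (Z k) := by
  suffices h : ∀ (V : (P 1 k).Opens) (hV : V ≤ ch 0), V = (P 1 k).basicOpen (z (k := k) (0 : Fin 2) 1) →
      Function.Injective fun p => resO (P 1 k) hV (poly k 0 p) by
    simpa only [res_poly₀] using h (ov k) inf_le_left (ov_eq k)
  rintro V hV rfl a b hab
  letI : Algebra Γ(P 1 k, ch 0) Γ(P 1 k, (P 1 k).basicOpen (z (k := k) (0 : Fin 2) 1)) :=
    (resO (P 1 k) hV).toAlgebra
  haveI : IsLocalization.Away (z (k := k) (0 : Fin 2) 1) Γ(P 1 k, (P 1 k).basicOpen (z (k := k) (0 : Fin 2) 1)) :=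
    (PicPn.isAffineOpen_ch 0).isLocalization_basicOpen _
  haveI : IsDomain Γ(P 1 k, ch (k := k) (0 : Fin 2)) :=
    (RingEquiv.ofBijective _ (poly_bijective k 0)).symm.toMulEquiv.isDomain _
  exact (poly_bijective k 0).1 (IsLocalization.injective (M := Submonoid.powers (z (k := k) (0 : Fin 2) 1))
    Γ(P 1 k, (P 1 k).basicOpen (z (k := k) (0 : Fin 2) 1))
    (powers_le_nonZeroDivisors_of_noZeroDivisors (PicPn.prime_z 0 1 (by decide)).ne_zero) hab)

theorem exists_mul_pow (δ : Γ(P 1 k, ov k)) : ∃ (m : ℕ) (p : k[X]), δ = p.eval₂ (cst₀₁ k) (Z k) * W k ^ m := by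
  suffices h : ∀ (V : (P 1 k).Opens) (hV : V ≤ ch 0), V = (P 1 k).basicOpen (z (k := k) (0 : Fin 2) 1) →
      ∀ δ : Γ(P 1 k, V), ∃ (m : ℕ) (p : k[X]),
        δ * resO (P 1 k) hV (z (k := k) (0 : Fin 2) 1) ^ m = resO (P 1 k) hV (poly k 0 p) by
    obtain ⟨m, p, hp⟩ := h (ov k) inf_le_left (ov_eq k) δ
    refine ⟨m, p, ?_⟩
    rw [res_poly₀] at hp
    rw [← hp]
    show δ = δ * Z k ^ m * W k ^ m
    rw [mul_assoc, ← mul_pow, Z_mul_W, one_pow, mul_one]
  rintro V hV rfl δ
  letI : Algebra Γ(P 1 k, ch 0) Γ(P 1 k, (P 1 k).basicOpen (z (k := k) (0 : Fin 2) 1)) :=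
    (resO (P 1 k) hV).toAlgebra
  haveI : IsLocalization.Away (z (k := k) (0 : Fin 2) 1) Γ(P 1 k, (P 1 k).basicOpen (z (k := k) (0 : Fin 2) 1)) :=
    (PicPn.isAffineOpen_ch 0).isLocalization_basicOpen _
  obtain ⟨m, a, ha⟩ := IsLocalization.Away.surj (z (k := k) (0 : Fin 2) 1) δ
  obtain ⟨p, rfl⟩ := (poly_bijective k 0).2 a
  exact ⟨m, p, ha⟩

/-- Splitting on the overlap. -/
theorem split (n : ℕ) (δ : Γ(P 1 k, ov k)) : ∃ p q : k[X],
    δ = p.eval₂ (cst₀₁ k) (Z k) * W k ^ n - q.eval₂ (cst₀₁ k) (W k) := by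
  obtain ⟨m, p, rfl⟩ := exists_mul_pow k δ
  have hzw : ∀ j, Z k ^ j * W k ^ j = 1 := fun j => by rw [← mul_pow, Z_mul_W, one_pow]
  induction p using Polynomial.induction_on' with
  | add p q hp hq =>
    obtain ⟨a, b, h⟩ := hp
    obtain ⟨c, d, h'⟩ := hq
    exact ⟨a + c, b + d, by rw [eval₂_add, eval₂_add, eval₂_add, add_mul, h, h']; ring⟩
  | monomial j c =>
    have key : ∀ a b c d : ℕ, a + d = b + c → Z k ^ a * W k ^ b = Z k ^ c * W k ^ d := fun a b c d h => by
      calc Z k ^ a * W k ^ b = Z k ^ a * W k ^ b * (Z k ^ d * W k ^ d) := by rw [hzw, mul_one]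
        _ = Z k ^ (a + d) * W k ^ (b + d) := by rw [pow_add, pow_add]; ring
        _ = Z k ^ c * W k ^ d * (Z k ^ b * W k ^ b) := by rw [h, pow_add, pow_add]; ring
        _ = _ := by rw [hzw, mul_one]
    rcases le_total m (j + n) with h | h
    · refine ⟨monomial (j + n - m) c, 0, ?_⟩
      simp only [eval₂_monomial, eval₂_zero, sub_zero]
      rw [mul_assoc, mul_assoc, key j m (j + n - m) n (by omega)]
    · refine ⟨0, monomial (m - j) (-c), ?_⟩
      rw [eval₂_monomial, eval₂_monomial, eval₂_zero, zero_mul, map_neg, mul_assoc, key j m 0 (m - j) (by omega),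
        pow_zero, one_mul]
      ring

/-- Two polynomials agreeing on the overlap up to `W ^ n`. -/
theorem degree_le {n : ℕ} {p q : k[X]} (h : p.eval₂ (cst₀₁ k) (Z k) * W k ^ n = q.eval₂ (cst₀₁ k) (W k)) :
    p.natDegree ≤ n ∧ (p = 0 → q = 0) := by
  let N := q.natDegree
  have hzw : ∀ j, Z k ^ j * W k ^ j = 1 := fun j => by rw [← mul_pow, Z_mul_W, one_pow]
  let q' : k[X] := ∑ i ∈ Finset.range (N + 1), monomial (n + N - i) (q.coeff i)
  have h1 : p * Polynomial.X ^ N = q' := by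
    refine res₀_injective k ?_
    show (p * Polynomial.X ^ N).eval₂ (cst₀₁ k) (Z k) = q'.eval₂ (cst₀₁ k) (Z k)
    rw [eval₂_mul, eval₂_X_pow, eval₂_finsetSum]
    calc p.eval₂ (cst₀₁ k) (Z k) * Z k ^ N = p.eval₂ (cst₀₁ k) (Z k) * W k ^ n * Z k ^ (n + N) := by
          rw [pow_add, show p.eval₂ (cst₀₁ k) (Z k) * W k ^ n * (Z k ^ n * Z k ^ N) =
            p.eval₂ (cst₀₁ k) (Z k) * Z k ^ N * (Z k ^ n * W k ^ n) by ring, hzw, mul_one]
      _ = _ := by
        rw [h, eval₂_eq_sum_range, Finset.sum_mul]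
        refine Finset.sum_congr rfl fun i hi => ?_
        have hi' : i ≤ N := Nat.lt_succ_iff.1 (Finset.mem_range.1 hi)
        rw [eval₂_monomial, show n + N = (n + N - i) + i by omega, pow_add, show n + N - i + i - i = n + N - i by omega,
          show cst₀₁ k (q.coeff i) * W k ^ i * (Z k ^ (n + N - i) * Z k ^ i) =
            cst₀₁ k (q.coeff i) * Z k ^ (n + N - i) * (Z k ^ i * W k ^ i) by ring, hzw, mul_one]
  refine ⟨?_, fun hp => ?_⟩
  · by_contra hlt
    push Not at hlt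
    have hp : p ≠ 0 := by rintro rfl; simp at hlt
    have h2 : (p * Polynomial.X ^ N).natDegree = p.natDegree + N := natDegree_mul_X_pow N hp
    have h3 : q'.natDegree ≤ n + N := natDegree_sum_le_of_forall_le _ _ fun i _ =>
      (natDegree_monomial_le _).trans (Nat.sub_le _ _)
    rw [h1] at h2
    omega
  · subst hp
    ext i
    rw [coeff_zero]
    by_cases hi : i ≤ N
    · have h2 := congrArg (fun f => f.coeff (n + N - i)) h1
      simp only [zero_mul, coeff_zero, q', finsetSum_coeff, coeff_monomial] at h2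
      rw [Finset.sum_eq_single i] at h2
      · simpa using h2.symm
      · intro j hj hji
        rw [if_neg]
        have hj' : j ≤ N := Nat.lt_succ_iff.1 (Finset.mem_range.1 hj)
        omega
      · intro hni
        exact absurd (Finset.mem_range.2 (Nat.lt_succ_of_le hi)) hni
    · exact coeff_eq_zero_of_natDegree_lt (by omega)

/-- Generators of `O(1)` on the two charts. -/
theorem exists_gens : ∃ (e₀ : Γ(Twist.twistProjSpace 1 k 1, ch (k := k) (0 : Fin 2)))
    (e₁ : Γ(Twist.twistProjSpace 1 k 1, ch (k := k) (1 : Fin 2))), TMul.IsGen e₀ ∧ TMul.IsGen e₁ ∧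
    res (Twist.twistProjSpace 1 k 1) (inf_le_left : ov k ≤ ch 0) e₀ =
      W k • res (Twist.twistProjSpace 1 k 1) (inf_le_right : ov k ≤ ch 1) e₁ := by
  let G : LefPen.Form 1 k 1 := ⟨MvPolynomial.X 0, MvPolynomial.isHomogeneous_X k 0⟩
  obtain ⟨e₀, he₀, h₀⟩ := PlaneCurve.exists_coeff G 0
  obtain ⟨e₁, he₁, h₁⟩ := PlaneCurve.exists_coeff G 1
  refine ⟨e₀, e₁, he₀, he₁, ?_⟩
  have hr : ∀ (i : Fin 2) (h : ov k ≤ ch i), res _ h (TMul.val (PlaneCurve.sigma G) (ch (k := k) i)) =
      TMul.val (PlaneCurve.sigma G) (ov k) := fun i h => TMul.res_val _ _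
  have e0 := (hr 0 inf_le_left).trans (hr 1 inf_le_right).symm
  rw [h₀, h₁, res_smul, res_smul, show GrT.deh _ (X_mem (k := k) (0 : Fin 2)) G.1 = 1 from GrT.deh_self _ _,
    map_one, one_smul] at e0
  exact e0

end Groth.Agent.ExcCompl
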