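import Groth.Agent.ExcCompl.Data

/-!
The limit of the neighbourhoods and leading terms on a chart.
-/

set_option autoImplicit false
set_option backward.isDefEq.respectTransparency false
set_option backward.isDefEq.respectTransparency.types false
set_option linter.style.haveILetI false

universe u

open CategoryTheory CategoryTheory.Limits AlgebraicGeometry TopologicalSpace Opposite Polynomial

noncomputable section

namespace Groth.Agent.ExcCompl

variable {X : Scheme.{u}} (I : X.IdealSheafData)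

/-- Down to level one. -/
def bot1 : ∀ (n : ℕ) (U : X.Opens), T I (n + 1) U →+* T I 1 U
  | 0, _ => RingHom.id _
  | n + 1, U => (bot1 n U).comp (dn I (n + 1) U)

theorem bot1_r : ∀ (n : ℕ) {U V : X.Opens} (h : V ≤ U) (s : T I (n + 1) U),
    bot1 I n V (r I h s) = r I h (bot1 I n U s)
  | 0, _, _, _, _ => rfl
  | n + 1, _, _, h, s => by
    show bot1 I n _ (dn I (n + 1) _ _) = r I h (bot1 I n _ _)
    rw [dn_r, bot1_r n h]

theorem bot1_pr : ∀ (n : ℕ) (U : X.Opens) (s : Γ(X, U)), bot1 I n U (pr I (n + 1) U s) = pr I 1 U s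
  | 0, _, _ => rfl
  | n + 1, U, s => by
    show bot1 I n U (dn I (n + 1) U _) = _
    rw [dn_pr, bot1_pr n U]

theorem bot_bot1 : ∀ (n : ℕ) (U : X.Opens) (s : T I (n + 1) U), bot I 1 U (bot1 I n U s) = bot I (n + 1) U s
  | 0, _, _ => rfl
  | n + 1, U, s => bot_bot1 n U (dn I (n + 1) U s)

/-- Congruences modulo the square give congruences of powers. -/
theorem pow_congr {n : ℕ} {V : X.Opens} (s s' a : T I (n + 1) V)
    (h : bot1 I n V s = bot1 I n V a * bot1 I n V s') (h' : bot I (n + 1) V s' = 0) :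
    s ^ (n + 1) = a ^ (n + 1) * s' ^ (n + 1) := by
  choose W hW hxW hle using fun x : {x : X // x ∈ V ∧ x ∈ I.support} =>
    exists_isAffineOpen_mem_and_subset x.2.1
  refine r_injective_of_cover I W hle (preimage_le_iSup I (n + 1) W hxW) _ _ fun x => ?_
  let W' : X.affineOpens := ⟨W x, hW x⟩
  obtain ⟨S, hS⟩ := pr_surjective I (n + 1) W' (r I (hle x) s)
  obtain ⟨S', hS'⟩ := pr_surjective I (n + 1) W' (r I (hle x) s')
  obtain ⟨A, hA⟩ := pr_surjective I (n + 1) W' (r I (hle x) a)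
  have h1 : S - A * S' ∈ I.ideal W' ^ 2 := by
    refine (pr_eq_zero_iff I 1 W' _).1 ?_
    have h3 := congrArg (r I (hle x)) h
    rw [map_mul, ← bot1_r, ← bot1_r, ← bot1_r, ← hS, ← hS', ← hA, bot1_pr, bot1_pr, bot1_pr] at h3
    rw [map_sub, map_mul, h3, sub_self]
  have h2 : S' ∈ I.ideal W' := by
    have h3 := congrArg (r I (hle x)) h'
    rw [map_zero, ← bot_r, ← hS', bot_pr] at h3
    simpa using (pr_eq_zero_iff I 0 W' S').1 h3
  have h4 : S ∈ I.ideal W' := by
    have := add_mem (Ideal.pow_le_self two_ne_zero h1) (Ideal.mul_mem_left _ A h2)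
    rwa [sub_add_cancel] at this
  have h5 : S ^ (n + 1) - (A * S') ^ (n + 1) ∈ I.ideal W' ^ (n + 1 + 1) := by
    rw [← geom_sum₂_mul S (A * S') (n + 1), mul_comm, show n + 1 + 1 = 2 + n by omega, pow_add]
    refine Ideal.mul_mem_mul h1 (Ideal.sum_mem _ fun i hi => ?_)
    have hi' : i ≤ n := Nat.lt_succ_iff.1 (Finset.mem_range.1 hi)
    have h6 := Ideal.mul_mem_mul (Ideal.pow_mem_pow h4 i)
      (Ideal.pow_mem_pow (Ideal.mul_mem_left _ A h2) (n + 1 - 1 - i))
    rwa [← pow_add, show i + (n + 1 - 1 - i) = n by omega] at h6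
  rw [mul_pow, ← pr_eq_zero_iff I (n + 1) W', map_sub, map_mul, map_pow, map_pow, map_pow, sub_eq_zero, hS, hS', hA] at h5
  rw [map_mul, map_pow, map_pow, map_pow]
  exact h5

/-- The limit of the rings of functions of the neighbourhoods. -/
def lim : Subring (∀ n, T I n ⊤) where
  carrier := {x | ∀ n, dn I n ⊤ (x (n + 1)) = x n}
  mul_mem' := fun {x y} hx hy n => by
    show dn I n ⊤ (x (n + 1) * y (n + 1)) = x n * y n
    rw [map_mul, hx n, hy n]
  one_mem' := fun n => map_one _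
  add_mem' := fun {x y} hx hy n => by
    show dn I n ⊤ (x (n + 1) + y (n + 1)) = x n + y n
    rw [map_add, hx n, hy n]
  zero_mem' := fun n => map_zero _
  neg_mem' := fun {x} hx n => by
    show dn I n ⊤ (-x (n + 1)) = -x n
    rw [map_neg, hx n]

/-- Projections. -/
def φ (n : ℕ) : lim I →+* T I n ⊤ := (Pi.evalRingHom (fun n => T I n ⊤) n).comp (lim I).subtype

theorem dn_φ (n : ℕ) (x : lim I) : dn I n ⊤ (φ I (n + 1) x) = φ I n x := x.2 n

/-- Restriction of a projection. -/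
def ρ (U : X.Opens) (n : ℕ) : lim I →+* T I n U := (r I le_top).comp (φ I n)

theorem dn_ρ (U : X.Opens) (n : ℕ) (x : lim I) : dn I n U (ρ I U (n + 1) x) = ρ I U n x := by
  show dn I n U (r I le_top _) = r I le_top _
  rw [dn_r, dn_φ]

/-- The filtration. -/
def K : ℕ → Ideal (lim I)
  | 0 => ⊤
  | n + 1 => RingHom.ker (φ I n)

theorem K_anti : Antitone (K I) := antitone_nat_of_succ_le fun n => by
  cases n with
  | zero => exact le_top
  | succ n =>
      intro x hx
      show φ I n x = 0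
      rw [← dn_φ, RingHom.mem_ker.1 hx, map_zero]

/-- A chart of the tower. -/
structure Chart (k : Type u) [Field k] where
  U : X.Opens
  aff : IsAffineOpen (nι I 0 ⁻¹ᵁ U)
  π : k[X] →+* T I 0 U
  bij : Function.Bijective π
  t : T I 1 U
  con : IsCon I 0 U t

variable {I} {k : Type u} [Field k] (C : Chart I k)

/-- The compatible lifts of the generator. -/
def Chart.τ : ∀ n, T I n C.U
  | 0 => 0
  | 1 => C.t
  | n + 2 => (dn_surjective I (n + 1) C.aff (Chart.τ (n + 1))).choose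

theorem Chart.dn_τ : ∀ n, dn I n C.U (C.τ (n + 1)) = C.τ n
  | 0 => by
    have := dn_pow_eq_zero I C.con
    show dn I 0 C.U C.t = 0
    simpa using this
  | n + 1 => (dn_surjective I (n + 1) C.aff (C.τ (n + 1))).choose_spec

theorem Chart.con_τ : ∀ n, IsCon I n C.U (C.τ (n + 1))
  | 0 => C.con
  | n + 1 => IsCon.lift I (by rw [C.dn_τ (n + 1)]; exact Chart.con_τ n)

theorem Chart.bot_τ : ∀ n, bot I n C.U (C.τ n) = 0
  | 0 => rfl
  | n + 1 => by
    show bot I n C.U (dn I n C.U (C.τ (n + 1))) = 0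
    rw [C.dn_τ, Chart.bot_τ n]

theorem Chart.bot1_τ : ∀ n, bot1 I n C.U (C.τ (n + 1)) = C.t
  | 0 => rfl
  | n + 1 => by
    show bot1 I n C.U (dn I (n + 1) C.U (C.τ (n + 2))) = C.t
    rw [C.dn_τ, Chart.bot1_τ n]

theorem Chart.mul_pow_eq_zero_iff (n : ℕ) (P : T I n C.U) : P * C.τ n ^ n = 0 ↔ bot I n C.U P = 0 := by
  cases n with
  | zero => rw [pow_zero, mul_one]; rfl
  | succ n => exact mul_eq_zero_iff I (C.con_τ n) P

/-- `p` is the leading term of `c` in degree `n` on the chart. -/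
def Chart.Lead (n : ℕ) (c : lim I) (p : k[X]) : Prop :=
  ∀ L, n ≤ L → ∃ P : T I L C.U, bot I L C.U P = C.π p ∧ ρ I C.U L c = P * C.τ L ^ n

theorem Chart.lead_of_eq {n : ℕ} {c : lim I} {p : k[X]} (P : T I n C.U) (hP : bot I n C.U P = C.π p)
    (h : ρ I C.U n c = P * C.τ n ^ n) : C.Lead n c p := by
  intro L hL
  induction L, hL using Nat.le_induction with
  | base => exact ⟨P, hP, h⟩
  | succ L hL ih =>
    obtain ⟨P₁, hP₁, h₁⟩ := ih
    obtain ⟨P', hP'⟩ := dn_surjective I L C.aff P₁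
    obtain ⟨d, hd⟩ := exists_eq_mul_pow I C.aff (C.con_τ L) (ρ I C.U (L + 1) c - P' * C.τ (L + 1) ^ n) (by
      rw [map_sub, dn_ρ, map_mul, map_pow, hP', C.dn_τ, h₁, sub_self])
    refine ⟨P' + d * C.τ (L + 1) ^ (L + 1 - n), ?_, ?_⟩
    · rw [map_add, map_mul, map_pow, C.bot_τ, zero_pow (by omega), mul_zero, add_zero]
      show bot I L C.U (dn I L C.U P') = _
      rw [hP', hP₁]
    · rw [add_mul, mul_assoc, ← pow_add, Nat.sub_add_cancel (by omega), ← hd]
      ring

theorem Chart.exists_lead {n : ℕ} {c : lim I} (hc : c ∈ K I n) : ∃ p, C.Lead n c p := by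
  cases n with
  | zero =>
    obtain ⟨p, hp⟩ := C.bij.2 (ρ I C.U 0 c)
    exact ⟨p, C.lead_of_eq (ρ I C.U 0 c) hp.symm (by rw [pow_zero, mul_one])⟩
  | succ n =>
    obtain ⟨P, hP⟩ := exists_eq_mul_pow I C.aff (C.con_τ n) (ρ I C.U (n + 1) c) (by
      rw [dn_ρ]
      show r I _ (φ I n c) = 0
      rw [RingHom.mem_ker.1 hc, map_zero])
    obtain ⟨p, hp⟩ := C.bij.2 (bot I (n + 1) C.U P)
    exact ⟨p, C.lead_of_eq P hp.symm hP⟩

variable {C}

theorem Chart.Lead.eq_zero_iff {n : ℕ} {c : lim I} {p : k[X]} (h : C.Lead n c p) :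
    ρ I C.U n c = 0 ↔ p = 0 := by
  obtain ⟨P, hP, he⟩ := h n le_rfl
  rw [he, C.mul_pow_eq_zero_iff, hP, map_eq_zero_iff _ C.bij.1]

theorem Chart.Lead.sub {n : ℕ} {c d : lim I} {p q : k[X]} (h : C.Lead n c p) (h' : C.Lead n d q) :
    C.Lead n (c - d) (p - q) := fun L hL => by
  obtain ⟨P, hP, he⟩ := h L hL
  obtain ⟨Q, hQ, he'⟩ := h' L hL
  exact ⟨P - Q, by rw [map_sub, map_sub, hP, hQ], by rw [map_sub, he, he', sub_mul]⟩

theorem Chart.Lead.unique {n : ℕ} {c : lim I} {p q : k[X]} (h : C.Lead n c p) (h' : C.Lead n c q) : p = q := by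
  rw [← sub_eq_zero, ← (h.sub h').eq_zero_iff, sub_self, map_zero]

theorem Chart.Lead.add {n : ℕ} {c d : lim I} {p q : k[X]} (h : C.Lead n c p) (h' : C.Lead n d q) :
    C.Lead n (c + d) (p + q) := fun L hL => by
  obtain ⟨P, hP, he⟩ := h L hL
  obtain ⟨Q, hQ, he'⟩ := h' L hL
  exact ⟨P + Q, by rw [map_add, map_add, hP, hQ], by rw [map_add, he, he', add_mul]⟩

theorem Chart.Lead.mul {n m : ℕ} {c d : lim I} {p q : k[X]} (h : C.Lead n c p) (h' : C.Lead m d q) :
    C.Lead (n + m) (c * d) (p * q) := fun L hL => by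
  obtain ⟨P, hP, he⟩ := h L ((Nat.le_add_right n m).trans hL)
  obtain ⟨Q, hQ, he'⟩ := h' L ((Nat.le_add_left m n).trans hL)
  exact ⟨P * Q, by rw [map_mul, map_mul, hP, hQ], by rw [map_mul, he, he', pow_add]; ring⟩

theorem Chart.lead_zero (n : ℕ) : C.Lead n 0 0 := fun L _ => ⟨0, by rw [map_zero, map_zero], by rw [map_zero, zero_mul]⟩

theorem Chart.lead_one : C.Lead 0 1 1 := fun L _ => ⟨1, by rw [map_one, map_one], by rw [map_one, pow_zero, mul_one]⟩

theorem Chart.Lead.pow {n : ℕ} {c : lim I} {p : k[X]} (h : C.Lead n c p) :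
    ∀ j, C.Lead (n * j) (c ^ j) (p ^ j)
  | 0 => by rw [Nat.mul_zero, pow_zero, pow_zero]; exact Chart.lead_one
  | j + 1 => by rw [Nat.mul_succ, pow_succ, pow_succ]; exact (h.pow j).mul h

theorem Chart.Lead.below {n : ℕ} {c : lim I} {p : k[X]} (h : C.Lead (n + 1) c p) : ρ I C.U n c = 0 := by
  obtain ⟨P, -, he⟩ := h (n + 1) le_rfl
  rw [← dn_ρ, he, map_mul, dn_pow_eq_zero I (C.con_τ n), mul_zero]

end Groth.Agent.ExcCompl
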