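import Groth.Agent.ExcCompl.Gen

/-!
From generators of the pulled back ideal to conormal generators.
-/

set_option autoImplicit false
set_option backward.isDefEq.respectTransparency false
set_option backward.isDefEq.respectTransparency.types false
set_option linter.style.haveILetI false

universe u

open CategoryTheory CategoryTheory.Limits AlgebraicGeometry TopologicalSpace Opposite
open Groth.Agent.QC (res resO res_res res_smul resO_resO)
open TMul (IsGen)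

noncomputable section

namespace Groth.Agent.ExcCompl

variable {X P : Scheme.{u}} (I : X.IdealSheafData) (ι₀ : P ⟶ X) [IsClosedImmersion ι₀] (hker : ι₀.ker = I)
include hker

theorem exists_iso : ∃ ρ : P ⟶ nb I 0, IsIso ρ ∧ ρ ≫ nι I 0 = ι₀ := by
  subst hker
  have key : ∀ (J K : X.IdealSheafData) (h : J = K), eqToHom (congrArg (fun L => L.subscheme) h) ≫ K.subschemeι =
      J.subschemeι := by
    intro J K h; subst h; simp
  refine ⟨ι₀.toImage ≫ eqToHom (congrArg (fun L => L.subscheme) (pow_one ι₀.ker).symm), ?_, ?_⟩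
  · haveI : IsIso ι₀.toImage := inferInstance
    infer_instance
  · rw [Category.assoc, key _ _ (pow_one ι₀.ker).symm]
    exact ι₀.toImage_imageι

theorem preimage_psi (U : X.Opens) :
    ι₀ ⁻¹ᵁ U ≤ (exists_iso I ι₀ hker).choose ⁻¹ᵁ (nι I 0 ⁻¹ᵁ U) := by
  rw [← Scheme.Hom.comp_preimage, (exists_iso I ι₀ hker).choose_spec.2]

/-- Functions on the zeroth neighbourhood as functions on `P`. -/
def psi (U : X.Opens) : T I 0 U →+* Γ(P, ι₀ ⁻¹ᵁ U) :=
  ((exists_iso I ι₀ hker).choose.appLE (nι I 0 ⁻¹ᵁ U) (ι₀ ⁻¹ᵁ U) (preimage_psi I ι₀ hker U)).hom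

theorem psi_r {U V : X.Opens} (h : V ≤ U) (s : T I 0 U) :
    psi I ι₀ hker V (r I h s) = resO P (ι₀.preimage_mono h) (psi I ι₀ hker U s) := by
  simp only [psi, r, resO, ← CommRingCat.comp_apply, Scheme.Hom.map_appLE, Scheme.Hom.appLE_map]

theorem psi_pr (U : X.Opens) (s : Γ(X, U)) : psi I ι₀ hker U (pr I 0 U s) = (ι₀.app U).hom s := by
  simp only [psi, pr, Scheme.Hom.app_eq_appLE, ← CommRingCat.comp_apply, Scheme.Hom.appLE_comp_appLE,
    (exists_iso I ι₀ hker).choose_spec.2]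

theorem psi_bijective (U : X.Opens) : Function.Bijective (psi I ι₀ hker U) := by
  haveI := (exists_iso I ι₀ hker).choose_spec.1
  have he : (exists_iso I ι₀ hker).choose ⁻¹ᵁ (nι I 0 ⁻¹ᵁ U) = ι₀ ⁻¹ᵁ U := by
    rw [← Scheme.Hom.comp_preimage, (exists_iso I ι₀ hker).choose_spec.2]
  haveI : IsIso (P.presheaf.map (homOfLE (preimage_psi I ι₀ hker U)).op) := by
    rw [show homOfLE (preimage_psi I ι₀ hker U) = eqToHom he.symm from Subsingleton.elim _ _]
    infer_instance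
  rw [psi, Scheme.Hom.appLE]
  exact ConcreteCategory.bijective_of_isIso _

/-- A conormal generator attached to a generator of the pullback. -/
def Rel {U : X.Opens} (e : Γ((Scheme.Modules.pullback ι₀).obj (ClSub.idealMod I), ι₀ ⁻¹ᵁ U)) (t : T I 1 U) : Prop :=
  ∀ (W : X.affineOpens) (hW : W.1 ≤ U) (g : Γ(ClSub.idealMod I, W.1)), IsGen g → ∀ u : Γ(X, W.1),
    res _ (ι₀.preimage_mono hW) e = (ι₀.app W.1).hom u • ProjMor.eta ι₀ (ClSub.idealMod I) W.1 g →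
      r I hW t = pr I 1 W.1 (u * toFun I g)

theorem app_eq_zero_iff (W : X.affineOpens) (a : Γ(X, W.1)) : (ι₀.app W.1).hom a = 0 ↔ a ∈ I.ideal W := by
  subst hker
  rw [Scheme.Hom.ker_apply]
  rfl

theorem coeff_unique {W : X.affineOpens} {g : Γ(ClSub.idealMod I, W.1)} (hg : IsGen g) {u u' : Γ(X, W.1)}
    (h : (ι₀.app W.1).hom u • ProjMor.eta ι₀ (ClSub.idealMod I) W.1 g =
      (ι₀.app W.1).hom u' • ProjMor.eta ι₀ (ClSub.idealMod I) W.1 g) :
    pr I 1 W.1 (u * toFun I g) = pr I 1 W.1 (u' * toFun I g) := by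
  have h1 := (C1Cap.isGen_eta ι₀ hg (ι₀ ⁻¹ᵁ W.1) le_rfl).1
    (a₁ := (ι₀.app W.1).hom u) (a₂ := (ι₀.app W.1).hom u') (by simpa only [Groth.Agent.QC.res_self] using h)
  rw [← sub_eq_zero, ← map_sub, app_eq_zero_iff I ι₀ hker] at h1
  rw [← sub_eq_zero, ← map_sub, pr_eq_zero_iff, ← sub_mul, pow_two]
  exact Ideal.mul_mem_mul h1 ((isLocGen_of_isGen I hg).1.ge (Ideal.mem_span_singleton_self _))

theorem exists_coeff' {U : X.Opens} (e : Γ((Scheme.Modules.pullback ι₀).obj (ClSub.idealMod I), ι₀ ⁻¹ᵁ U))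
    {W : X.affineOpens} (hW : W.1 ≤ U) {g : Γ(ClSub.idealMod I, W.1)} (hg : IsGen g) :
    ∃ u : Γ(X, W.1), res _ (ι₀.preimage_mono hW) e = (ι₀.app W.1).hom u • ProjMor.eta ι₀ (ClSub.idealMod I) W.1 g := by
  obtain ⟨c, hc⟩ := (C1Cap.isGen_eta ι₀ hg (ι₀ ⁻¹ᵁ W.1) le_rfl).2 (res _ (ι₀.preimage_mono hW) e)
  obtain ⟨u, rfl⟩ := ι₀.app_surjective W.1 W.2 c
  exact ⟨u, by simpa only [Groth.Agent.QC.res_self] using hc.symm⟩

/-- Change of chart. -/
theorem local_eq {U : X.Opens} (e : Γ((Scheme.Modules.pullback ι₀).obj (ClSub.idealMod I), ι₀ ⁻¹ᵁ U))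
    {W V : X.affineOpens} (hW : W.1 ≤ U) (hV : V.1 ≤ W.1) {g : Γ(ClSub.idealMod I, W.1)}
    {g' : Γ(ClSub.idealMod I, V.1)} (hg' : IsGen g') {u : Γ(X, W.1)} {u' : Γ(X, V.1)}
    (hu : res _ (ι₀.preimage_mono hW) e = (ι₀.app W.1).hom u • ProjMor.eta ι₀ (ClSub.idealMod I) W.1 g)
    (hu' : res _ (ι₀.preimage_mono (hV.trans hW)) e = (ι₀.app V.1).hom u' • ProjMor.eta ι₀ (ClSub.idealMod I) V.1 g') :
    r I hV (pr I 1 W.1 (u * toFun I g)) = pr I 1 V.1 (u' * toFun I g') := by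
  obtain ⟨v, hv⟩ := (hg' V.1 le_rfl).2 (res _ hV g)
  simp only [Groth.Agent.QC.res_self] at hv
  rw [r_pr, map_mul, show (X.presheaf.map (homOfLE hV).op).hom (toFun I g) = resO X hV (toFun I g) from rfl,
    ← toFun_res, ← hv, toFun_smul, ← mul_assoc]
  refine coeff_unique I ι₀ hker hg' ?_
  have h := congrArg (res _ (ι₀.preimage_mono hV)) hu
  rw [res_res, res_smul, ProjMor.eta_res _ _ hV, ← hv, ProjMor.eta_smul] at h
  refine Eq.trans ?_ (h.symm.trans hu')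
  rw [map_mul, mul_smul]
  congr 1
  exact congr($(ι₀.naturality (homOfLE hV).op).hom u)

theorem exists_rel (hI : BlowUp.IsEffCartierIdeal I) {U : X.Opens}
    (e : Γ((Scheme.Modules.pullback ι₀).obj (ClSub.idealMod I), ι₀ ⁻¹ᵁ U)) (he : IsGen e) :
    ∃ t : T I 1 U, Rel I ι₀ e t ∧ IsCon I 0 U t := by
  choose W g hxW hW hg using fun x : {x : X // x ∈ U ∧ x ∈ I.support} => exists_isGen I hI (x := x.1) x.2.1
  choose u hu using fun x => exists_coeff' I ι₀ hker e (hW x) (hg x)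
  let s : ∀ x, T I 1 (W x).1 := fun x => pr I 1 (W x).1 (u x * toFun I (g x))
  obtain ⟨t, ht, -⟩ := (nb I 1).sheaf.existsUnique_gluing' (fun x => nι I 1 ⁻¹ᵁ (W x).1) (nι I 1 ⁻¹ᵁ U)
    (fun x => homOfLE ((nι I 1).preimage_mono (hW x))) (preimage_le_iSup I 1 _ hxW) s (fun x y => by
      show r I (inf_le_left : (W x).1 ⊓ (W y).1 ≤ (W x).1) (s x) = r I inf_le_right (s y)
      choose V g' hzV hV hg' using fun z : {z : X // z ∈ (W x).1 ⊓ (W y).1 ∧ z ∈ I.support} =>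
        exists_isGen I hI (x := z.1) z.2.1
      choose u' hu' using fun z => exists_coeff' I ι₀ hker e ((hV z).trans (inf_le_left.trans (hW x))) (hg' z)
      refine r_injective_of_cover I (fun z => (V z).1) hV (preimage_le_iSup I 1 _ hzV) _ _ fun z => ?_
      rw [r_r, r_r, local_eq I ι₀ hker e (hW x) _ (hg' z) (hu x) (hu' z),
        local_eq I ι₀ hker e (hW y) _ (hg' z) (hu y) (hu' z)])
  have hrel : Rel I ι₀ e t := fun W' hW' g₁ hg₁ u₁ hu₁ => by
    choose V g' hzV hV hg' using fun z : {z : X // z ∈ W'.1 ∧ z ∈ I.support} =>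
      exists_isGen I hI (x := z.1) (O := W'.1 ⊓ (W ⟨z.1, hW' z.2.1, z.2.2⟩).1) ⟨z.2.1, hxW _⟩
    have hV₁ : ∀ z, (V z).1 ≤ W'.1 := fun z => (hV z).trans inf_le_left
    choose u' hu' using fun z => exists_coeff' I ι₀ hker e ((hV₁ z).trans hW') (hg' z)
    refine r_injective_of_cover I (fun z => (V z).1) hV₁ (preimage_le_iSup I 1 _ hzV) _ _ fun z => ?_
    rw [r_r, local_eq I ι₀ hker e hW' (hV₁ z) (hg' z) hu₁ (hu' z)]
    let z' : {x : X // x ∈ U ∧ x ∈ I.support} := ⟨z.1, hW' z.2.1, z.2.2⟩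
    rw [← r_r I (hW z') ((hV z).trans inf_le_right) t, show r I (hW z') t = s z' from ht z']
    exact local_eq I ι₀ hker e (hW z') _ (hg' z) (hu z') (hu' z)
  refine ⟨t, hrel, fun x hxU hxI => ?_⟩
  obtain ⟨W', g₁, hxW', hW', hg₁⟩ := exists_isGen I hI hxU
  obtain ⟨u₁, hu₁⟩ := exists_coeff' I ι₀ hker e hW' hg₁
  refine ⟨W', hW', toFun I g₁, u₁, hxW', isLocGen_of_isGen I hg₁, ?_, hrel W' hW' g₁ hg₁ u₁ hu₁⟩
  obtain ⟨v, hv⟩ := (he (ι₀ ⁻¹ᵁ W'.1) (ι₀.preimage_mono hW')).2 (ProjMor.eta ι₀ (ClSub.idealMod I) W'.1 g₁)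
  obtain ⟨v', rfl⟩ := (psi_bijective I ι₀ hker W'.1).2 v
  refine IsUnit.of_mul_eq_one v' ((psi_bijective I ι₀ hker W'.1).1 ?_)
  rw [map_mul, psi_pr, map_one]
  refine ((C1Cap.isGen_eta ι₀ hg₁ (ι₀ ⁻¹ᵁ W'.1) le_rfl).1 ?_)
  simp only [Groth.Agent.QC.res_self, one_smul]
  rw [mul_comm, mul_smul, ← hu₁]
  exact hv

/-- The transition between two conormal generators. -/
theorem rel_transition (hI : BlowUp.IsEffCartierIdeal I) {U V : X.Opens}
    {e : Γ((Scheme.Modules.pullback ι₀).obj (ClSub.idealMod I), ι₀ ⁻¹ᵁ U)}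
    {e' : Γ((Scheme.Modules.pullback ι₀).obj (ClSub.idealMod I), ι₀ ⁻¹ᵁ V)} {t : T I 1 U} {t' : T I 1 V}
    (ht : Rel I ι₀ e t) (ht' : Rel I ι₀ e' t') (w : T I 1 (U ⊓ V))
    (hw : res _ (ι₀.preimage_mono inf_le_left) e = psi I ι₀ hker (U ⊓ V) (bot I 1 (U ⊓ V) w) •
      res _ (ι₀.preimage_mono inf_le_right) e') :
    r I (inf_le_left : U ⊓ V ≤ U) t = w * r I (inf_le_right : U ⊓ V ≤ V) t' := by
  choose W g hxW hW hg using fun x : {x : X // x ∈ U ⊓ V ∧ x ∈ I.support} => exists_isGen I hI (x := x.1) x.2.1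
  choose u hu using fun x => exists_coeff' I ι₀ hker e' ((hW x).trans inf_le_right) (hg x)
  refine r_injective_of_cover I (fun x => (W x).1) hW (preimage_le_iSup I 1 _ hxW) _ _ fun x => ?_
  obtain ⟨w', hw'⟩ := pr_surjective I 1 (W x) (r I (hW x) w)
  rw [map_mul, r_r, r_r, ht' (W x) ((hW x).trans inf_le_right) (g x) (hg x) (u x) (hu x), ← hw', ← map_mul,
    ← mul_assoc]
  refine ht (W x) ((hW x).trans inf_le_left) (g x) (hg x) (w' * u x) ?_
  have h2 := congrArg (res _ (ι₀.preimage_mono (hW x))) hw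
  rw [res_res, res_smul, res_res] at h2
  rw [h2, hu x, map_mul, mul_smul, ← psi_r I ι₀ hker (hW x), ← bot_r I 1 (hW x), ← hw', bot_pr, psi_pr]

end Groth.Agent.ExcCompl
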