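import Groth.Agent.ExcCompl.Conv
import Groth.Agent.ExcCompl.Chart

/-!
An exceptional curve of the first kind as two charts of its tower of neighbourhoods.
-/

set_option autoImplicit false
set_option backward.isDefEq.respectTransparency false
set_option backward.isDefEq.respectTransparency.types false
set_option linter.style.haveILetI false

universe u

open CategoryTheory CategoryTheory.Limits AlgebraicGeometry TopologicalSpace Opposite Polynomial
open Groth.Agent.QC (res resO res_res res_smul resO_resO)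
open TMul (IsGen)

noncomputable section

namespace Groth.Agent.ExcCompl

variable {X : Scheme.{u}}

/-- Two affine charts of the neighbourhoods of a projective line with conormal bundle `O(1)`. -/
structure LineData (I : X.IdealSheafData) (k : Type u) [Field k] where
  U₀ : X.Opens
  U₁ : X.Opens
  cover : (I.support : Set X) ⊆ (U₀ : Set X) ∪ (U₁ : Set X)
  aff₀ : IsAffineOpen (nι I 0 ⁻¹ᵁ U₀)
  aff₁ : IsAffineOpen (nι I 0 ⁻¹ᵁ U₁)
  aff₀₁ : IsAffineOpen (nι I 0 ⁻¹ᵁ (U₀ ⊓ U₁))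
  π₀ : k[X] →+* T I 0 U₀
  bij₀ : Function.Bijective π₀
  π₁ : k[X] →+* T I 0 U₁
  bij₁ : Function.Bijective π₁
  cst : k →+* T I 0 (U₀ ⊓ U₁)
  Zc : T I 0 (U₀ ⊓ U₁)
  Wc : T I 0 (U₀ ⊓ U₁)
  mul_eq : Zc * Wc = 1
  r_π₀ : ∀ p : k[X], r I inf_le_left (π₀ p) = p.eval₂ cst Zc
  r_π₁ : ∀ p : k[X], r I inf_le_right (π₁ p) = p.eval₂ cst Wc
  inj : Function.Injective fun p : k[X] => p.eval₂ cst Zc
  split : ∀ (n : ℕ) (δ : T I 0 (U₀ ⊓ U₁)), ∃ p q : k[X],
    δ = p.eval₂ cst Zc * Wc ^ n - q.eval₂ cst Wc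
  degree_le : ∀ {n : ℕ} {p q : k[X]}, p.eval₂ cst Zc * Wc ^ n = q.eval₂ cst Wc →
    p.natDegree ≤ n ∧ (p = 0 → q = 0)
  t₀ : T I 1 U₀
  t₁ : T I 1 U₁
  w : T I 1 (U₀ ⊓ U₁)
  con₀ : IsCon I 0 U₀ t₀
  con₁ : IsCon I 0 U₁ t₁
  trans : r I inf_le_left t₀ = w * r I inf_le_right t₁
  bot_w : bot I 1 (U₀ ⊓ U₁) w = Wc

theorem isGen_app_iso {P : Scheme.{u}} {M N : P.Modules} (φ : M ≅ N) {U : P.Opens} {e : Γ(M, U)} (he : IsGen e) :
    IsGen (φ.hom.app U e) := fun V hV => by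
  have hb : Function.Bijective (φ.hom.app V) := ConcreteCategory.bijective_of_isIso (φ.hom.app V)
  have : (fun c : Γ(P, V) => c • res N hV (φ.hom.app U e)) =
      (φ.hom.app V) ∘ fun c : Γ(P, V) => c • res M hV e := funext fun c => by
    rw [Function.comp_apply, Groth.Agent.QC.app_res, Scheme.Modules.Hom.app_smul]
  rw [this]
  exact hb.comp (he V hV)

theorem isGen_res {P : Scheme.{u}} {M : P.Modules} {U V : P.Opens} {e : Γ(M, U)} (he : IsGen e) (h : V ≤ U) :
    IsGen (res M h e) := fun V' hV' => by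
  simp only [res_res]
  exact he V' (hV'.trans h)

theorem exists_lineData (I : X.IdealSheafData) (hI : BlowUp.IsEffCartierIdeal I) (k : Type u) [Field k]
    (ι₀ : CohB1.ProjSpace 1 k ⟶ X) [IsClosedImmersion ι₀] (hker : ι₀.ker = I)
    (eI : (Scheme.Modules.pullback ι₀).obj (ClSub.idealMod I) ≅ Twist.twistProjSpace 1 k 1) :
    Nonempty (LineData I k) := by
  let C : Fin 2 → (CohB1.ProjSpace 1 k).Opens := fun i => PicPn.ch (k := k) i
  let U : Fin 2 → X.Opens := fun i =>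
    ⟨(ι₀ '' (C i : Set _)ᶜ)ᶜ, (ι₀.isClosedEmbedding.isClosedMap _ (C i).isOpen.isClosed_compl).isOpen_compl⟩
  have hpre : ∀ i, ι₀ ⁻¹ᵁ U i = C i := fun i => by
    ext y
    show ι₀ y ∉ ι₀ '' (C i : Set _)ᶜ ↔ y ∈ C i
    rw [ι₀.isClosedEmbedding.injective.mem_set_image]
    exact not_not
  let V : X.Opens := U 0 ⊓ U 1
  have hpreV : ι₀ ⁻¹ᵁ V = ov k := by
    show ι₀ ⁻¹ᵁ U 0 ⊓ ι₀ ⁻¹ᵁ U 1 = _
    rw [hpre, hpre]
  have hcov : (I.support : Set X) ⊆ (U 0 : Set X) ∪ (U 1 : Set X) := by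
    intro x hx
    rw [← hker, Scheme.Hom.support_ker, ι₀.isClosedMap.isClosed_range.closure_eq] at hx
    obtain ⟨y, rfl⟩ := hx
    obtain ⟨i, hi⟩ := PicPn.exists_mem_ch (k := k) (n := 1) y
    have hy : ι₀ y ∈ U i := show y ∈ ι₀ ⁻¹ᵁ U i by rw [hpre]; exact hi
    fin_cases i
    · exact Or.inl hy
    · exact Or.inr hy
  have haff : ∀ (O : X.Opens), IsAffineOpen (ι₀ ⁻¹ᵁ O) → IsAffineOpen (nι I 0 ⁻¹ᵁ O) := fun O hO => by
    obtain ⟨ρ, hρ, hρι⟩ := exists_iso I ι₀ hker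
    haveI := hρ
    have h1 := hO.image_of_isOpenImmersion ρ
    rwa [← hρι, Scheme.Hom.comp_preimage, Scheme.Hom.image_preimage_eq_opensRange_inf,
      Scheme.Hom.opensRange_of_isIso, top_inf_eq] at h1
  have hov : IsAffineOpen (ov k) := by
    rw [ov_eq]; exact (PicPn.isAffineOpen_ch 0).basicOpen _
  -- polynomial functions
  let Ψ : ∀ O : X.Opens, T I 0 O ≃+* Γ(CohB1.ProjSpace 1 k, ι₀ ⁻¹ᵁ O) := fun O =>
    RingEquiv.ofBijective (psi I ι₀ hker O) (psi_bijective I ι₀ hker O)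
  let Pl : ∀ i, Polynomial k →+* T I 0 (U i) := fun i =>
    (Ψ (U i)).symm.toRingHom.comp ((resO _ (hpre i).le).comp (poly k i))
  have h0 : ∀ (A B : (CohB1.ProjSpace 1 k).Opens) (h : A = B), Function.Bijective (resO _ h.le) := by
    rintro A _ rfl
    exact ⟨fun a b hab => by simpa [Groth.Agent.QC.resO_self] using hab,
      fun a => ⟨a, Groth.Agent.QC.resO_self _ a⟩⟩
  have hPl : ∀ i, Function.Bijective (Pl i) := fun i =>
    (Ψ (U i)).symm.bijective.comp ((h0 _ _ (hpre i)).comp (poly_bijective k i))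
  let R : Γ(CohB1.ProjSpace 1 k, ov k) →+* T I 0 V := (Ψ V).symm.toRingHom.comp (resO _ hpreV.le)
  have hRbij : Function.Bijective R := (Ψ V).symm.bijective.comp (h0 _ _ hpreV)
  have hrPl : ∀ (i : Fin 2) (h : V ≤ U i) (h' : ov k ≤ C i) (p : Polynomial k),
      r I h (Pl i p) = R (resO _ h' (poly k i p)) := fun i h h' p => by
    refine (Ψ V).injective ?_
    show psi I ι₀ hker V (r I h ((Ψ (U i)).symm _)) = Ψ V ((Ψ V).symm _)
    rw [psi_r, RingEquiv.apply_symm_apply]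
    show resO _ _ (Ψ (U i) ((Ψ (U i)).symm (resO (CohB1.ProjSpace 1 k) (hpre i).le (poly k i p)))) = _
    rw [RingEquiv.apply_symm_apply]
    exact (resO_resO _ _ _).trans (resO_resO _ _ _).symm
  -- generators
  obtain ⟨e₀, e₁, he₀, he₁, htr⟩ := exists_gens k
  let f₀ := res _ (hpre 0).le (eI.inv.app (C 0) e₀)
  let f₁ := res _ (hpre 1).le (eI.inv.app (C 1) e₁)
  obtain ⟨t₀, ht₀, hc₀⟩ := exists_rel I ι₀ hker hI f₀ (isGen_res (isGen_app_iso eI.symm he₀) _)
  obtain ⟨t₁, ht₁, hc₁⟩ := exists_rel I ι₀ hker hI f₁ (isGen_res (isGen_app_iso eI.symm he₁) _)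
  obtain ⟨w, hw⟩ := bot_surjective I 1 (haff V (hpreV ▸ hov)) (R (W k))
  have he : ∀ (p : Polynomial k) (x : Γ(CohB1.ProjSpace 1 k, ov k)),
      R (p.eval₂ (cst₀₁ k) x) = p.eval₂ (R.comp (cst₀₁ k)) (R x) := fun p x => Polynomial.hom_eval₂ _ _ _ _
  refine ⟨{ U₀ := U 0, U₁ := U 1, cover := hcov
            aff₀ := haff _ (by rw [hpre]; exact PicPn.isAffineOpen_ch 0)
            aff₁ := haff _ (by rw [hpre]; exact PicPn.isAffineOpen_ch 1)
            aff₀₁ := haff V (hpreV ▸ hov)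
            π₀ := Pl 0, bij₀ := hPl 0, π₁ := Pl 1, bij₁ := hPl 1
            cst := R.comp (cst₀₁ k), Zc := R (Z k), Wc := R (W k)
            mul_eq := by rw [← map_mul, Z_mul_W, map_one]
            r_π₀ := fun p => by rw [hrPl 0 inf_le_left inf_le_left p, res_poly₀, he]
            r_π₁ := fun p => by rw [hrPl 1 inf_le_right inf_le_right p, res_poly₁, he]
            inj := fun p q h => res₀_injective k (hRbij.1 (by rw [he, he]; exact h))
            split := fun n δ => by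
              obtain ⟨δ', rfl⟩ := hRbij.2 δ
              obtain ⟨p, q, rfl⟩ := split k n δ'
              exact ⟨p, q, by rw [map_sub, map_mul, map_pow, he, he]⟩
            degree_le := fun {n p q} h => degree_le k (hRbij.1 (by rw [map_mul, map_pow, he, he]; exact h))
            t₀ := t₀, t₁ := t₁, w := w, con₀ := hc₀, con₁ := hc₁
            trans := rel_transition I ι₀ hker hI ht₀ ht₁ w ?_
            bot_w := hw }⟩
  rw [hw]
  show res _ _ f₀ = Ψ V ((Ψ V).symm (resO _ hpreV.le (W k))) • res _ _ f₁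
  rw [RingEquiv.apply_symm_apply, res_res, res_res]
  have h2 := congrArg (fun e => res _ hpreV.le (eI.inv.app (ov k) e)) htr
  simp only [Scheme.Modules.Hom.app_smul, res_smul, ← Groth.Agent.QC.app_res, res_res] at h2
  exact h2

end Groth.Agent.ExcCompl
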