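import Groth.Agent.ExcCompl.Tower
import Groth.Agent.S8914
import Groth.Agent.C1Cap.PullGen
import Groth.Agent.BlowUpLib.Cartier

/-!
Generators of the conormal bundle and the graded pieces of the tower.
-/

set_option autoImplicit false
set_option backward.isDefEq.respectTransparency false
set_option backward.isDefEq.respectTransparency.types false
set_option linter.style.haveILetI false

universe u

open CategoryTheory CategoryTheory.Limits AlgebraicGeometry TopologicalSpace Opposite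
open Groth.Agent.QC (res resO res_res res_smul resO_resO)
open TMul (IsGen)

noncomputable section

namespace Groth.Agent.ExcCompl

variable {X : Scheme.{u}} (I : X.IdealSheafData)

/-- A local generator of the ideal: `I|W = (f)`, with `f` a nonzerodivisor. -/
def IsLocGen (W : X.affineOpens) (f : Γ(X, W.1)) : Prop :=
  I.ideal W = Ideal.span {f} ∧ f ∈ nonZeroDivisors Γ(X, W.1)

/-- A section of the ideal module as a function. -/
def toFun {U : X.Opens} (g : Γ(ClSub.idealMod I, U)) : Γ(X, U) := (ClSub.idealModι I).app U g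

theorem toFun_smul {U : X.Opens} (c : Γ(X, U)) (g : Γ(ClSub.idealMod I, U)) : toFun I (c • g) = c * toFun I g :=
  Scheme.Modules.Hom.app_smul (ClSub.idealModι I) c g

theorem toFun_res {U V : X.Opens} (h : V ≤ U) (g : Γ(ClSub.idealMod I, U)) :
    toFun I (res (ClSub.idealMod I) h g) = resO X h (toFun I g) :=
  (Groth.Agent.QC.app_res (ClSub.idealModι I) h g).symm

theorem isLocGen_of_isGen {W : X.affineOpens} {g : Γ(ClSub.idealMod I, W.1)} (hg : IsGen g) :
    IsLocGen I W (toFun I g) := by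
  have hgen : ∀ m : Γ(ClSub.idealMod I, W.1), ∃ c : Γ(X, W.1), c • g = m := fun m => by
    obtain ⟨c, hc⟩ := (hg W.1 le_rfl).2 m
    refine ⟨c, ?_⟩
    simp only [Groth.Agent.QC.res_self] at hc
    exact hc
  refine ⟨le_antisymm (fun t ht => ?_) ?_, mem_nonZeroDivisors_iff_right.2 fun c hc => ?_⟩
  · obtain ⟨m, rfl⟩ := (Groth.Agent.QC.mem_range_idealModι_affine I W t).2 ht
    obtain ⟨c, rfl⟩ := hgen m
    rw [Ideal.mem_span_singleton']
    exact ⟨c, (toFun_smul I c g).symm⟩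
  · rw [Ideal.span_singleton_le_iff_mem]
    exact (Groth.Agent.QC.mem_range_idealModι_affine I W _).1 ⟨g, rfl⟩
  · have h1 : c • g = 0 := Groth.Agent.QC.app_injective_of_mono (ClSub.idealModι I) W.1
      (by show toFun I (c • g) = _; rw [toFun_smul, hc, map_zero])
    refine (hg W.1 le_rfl).1 ?_
    simp only [Groth.Agent.QC.res_self, h1, zero_smul]

theorem exists_isGen (hI : BlowUp.IsEffCartierIdeal I) {x : X} {O : X.Opens} (hx : x ∈ O) :
    ∃ (W : X.affineOpens) (g : Γ(ClSub.idealMod I, W.1)), x ∈ W.1 ∧ W.1 ≤ O ∧ IsGen g := by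
  obtain ⟨U, g, hxU, hg⟩ := TMul.exists_isGen ((S8914.result I).2 hI) x
  obtain ⟨W, hW, hxW, hle⟩ := exists_isAffineOpen_mem_and_subset (show x ∈ U ⊓ O from ⟨hxU, hx⟩)
  refine ⟨⟨W, hW⟩, res _ (fun y hy => (hle hy).1) g, hxW, fun y hy => (hle hy).2, fun V hV => ?_⟩
  simp only [res_res]
  exact hg V (fun y hy => (hle (hV hy)).1)

theorem IsLocGen.res {W : X.affineOpens} {f : Γ(X, W.1)} (hf : IsLocGen I W f) {W' : X.affineOpens}
    (h : W'.1 ≤ W.1) : IsLocGen I W' (resO X h f) := by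
  refine ⟨?_, BlowUpLib.mem_nonZeroDivisors_map_of_flat _ (BlowUpLib.flat_res W.2 W'.2 h) hf.2⟩
  rw [← I.map_ideal (U := W') (V := W) h, hf.1, Ideal.map_span, Set.image_singleton]
  rfl

/-- A conormal generator at level `n + 1`. -/
def IsCon (n : ℕ) (U : X.Opens) (t : T I (n + 1) U) : Prop :=
  ∀ x ∈ U, x ∈ I.support → ∃ (W : X.affineOpens) (hW : W.1 ≤ U) (f u : Γ(X, W.1)),
    x ∈ W.1 ∧ IsLocGen I W f ∧ IsUnit (pr I 0 W.1 u) ∧ r I hW t = pr I (n + 1) W.1 (u * f)

theorem IsCon.restrict {n : ℕ} {U V : X.Opens} {t : T I (n + 1) U} (ht : IsCon I n U t) (h : V ≤ U) :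
    IsCon I n V (r I h t) := fun x hx hxI => by
  obtain ⟨W, hW, f, u, hxW, hf, hu, ht'⟩ := ht x (h hx) hxI
  obtain ⟨W', hW', hxW', hle⟩ := exists_isAffineOpen_mem_and_subset (show x ∈ W.1 ⊓ V from ⟨hxW, hx⟩)
  have hle₁ : W' ≤ W.1 := fun y hy => (hle hy).1
  refine ⟨⟨W', hW'⟩, fun y hy => (hle hy).2, resO X hle₁ f, resO X hle₁ u, hxW', hf.res I hle₁, ?_, ?_⟩
  · have := hu.map (r I hle₁)
    rwa [r_pr] at this
  · have := congrArg (r I hle₁) ht'
    rw [r_r, r_pr, map_mul] at this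
    rw [r_r]
    exact this

theorem IsCon.lift {n : ℕ} {U : X.Opens} {t : T I (n + 2) U} (ht : IsCon I n U (dn I (n + 1) U t)) :
    IsCon I (n + 1) U t := fun x hx hxI => by
  obtain ⟨W, hW, f, u, hxW, hf, hu, ht'⟩ := ht x hx hxI
  obtain ⟨s, hs⟩ := pr_surjective I (n + 2) W (r I hW t)
  have h1 : pr I (n + 1) W.1 (s - u * f) = 0 := by
    rw [map_sub, ← dn_pr, hs, dn_r, ht', sub_self]
  rw [pr_eq_zero_iff, hf.1, Ideal.span_singleton_pow, Ideal.mem_span_singleton'] at h1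
  obtain ⟨c, hc⟩ := h1
  refine ⟨W, hW, f, u + c * f ^ (n + 1), hxW, hf, ?_, ?_⟩
  · have h0 : pr I 0 W.1 (c * f ^ (n + 1)) = 0 := by
      rw [pr_eq_zero_iff, pow_one, hf.1, Ideal.mem_span_singleton']
      exact ⟨c * f ^ n, by ring⟩
    rwa [map_add, h0, add_zero]
  · rw [← hs]
    congr 1
    linear_combination -hc

variable {n : ℕ} {U : X.Opens} {t : T I (n + 1) U}

theorem preimage_le_iSup (m : ℕ) (W : (x : {x : X // x ∈ U ∧ x ∈ I.support}) → X.Opens)
    (hW : ∀ x, x.1 ∈ W x) : nι I m ⁻¹ᵁ U ≤ ⨆ x, nι I m ⁻¹ᵁ W x := fun z hz =>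
  Opens.mem_iSup.2 ⟨⟨nι I m z, hz, (range_nι I m).subset ⟨z, rfl⟩⟩, hW _⟩

theorem mul_eq_zero_iff (ht : IsCon I n U t) (c : T I (n + 1) U) :
    c * t ^ (n + 1) = 0 ↔ bot I (n + 1) U c = 0 := by
  choose W hW f u hxW hf hu ht' using fun x : {x : X // x ∈ U ∧ x ∈ I.support} => ht x.1 x.2.1 x.2.2
  have key : ∀ x, r I (hW x) (c * t ^ (n + 1)) = 0 ↔ r I (hW x) (bot I (n + 1) U c) = 0 := fun x => by
    obtain ⟨c', hc'⟩ := pr_surjective I (n + 1) (W x) (r I (hW x) c)
    rw [map_mul, map_pow, ht' x, ← bot_r, ← hc', ← map_pow, ← map_mul, bot_pr, pr_eq_zero_iff, pr_eq_zero_iff,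
      pow_one, (hf x).1, Ideal.span_singleton_pow, Ideal.mem_span_singleton', Ideal.mem_span_singleton']
    constructor
    · rintro ⟨a, ha⟩
      obtain ⟨v, hv⟩ := ((hu x).pow (n + 1)).exists_right_inv
      obtain ⟨v, rfl⟩ := pr_surjective I 0 (W x) v
      have h1 : a * f x = c' * u x ^ (n + 1) := (mul_cancel_right_mem_nonZeroDivisors
        (pow_mem (hf x).2 (n + 1))).1 (by linear_combination ha)
      rw [← map_pow, ← map_mul, ← map_one (pr I 0 (W x).1), ← sub_eq_zero, ← map_sub, pr_eq_zero_iff, pow_one,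
        (hf x).1, Ideal.mem_span_singleton'] at hv
      obtain ⟨b, hb⟩ := hv
      exact ⟨a * v - c' * b, by linear_combination v * h1 - c' * hb⟩
    · rintro ⟨a, rfl⟩
      exact ⟨a * u x ^ (n + 1), by ring⟩
  refine ⟨fun h => ?_, fun h => ?_⟩
  · refine r_injective_of_cover I (fun x => (W x).1) hW (preimage_le_iSup I 0 _ hxW) _ 0 fun x => ?_
    rw [map_zero]
    exact (key x).1 (by rw [h, map_zero])
  · refine r_injective_of_cover I (fun x => (W x).1) hW (preimage_le_iSup I (n + 1) _ hxW) _ 0 fun x => ?_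
    rw [map_zero]
    exact (key x).2 (by rw [h, map_zero])

theorem mul_pow_congr (ht : IsCon I n U t) {c c' : T I (n + 1) U} (h : bot I (n + 1) U c = bot I (n + 1) U c') :
    c * t ^ (n + 1) = c' * t ^ (n + 1) := by
  rw [← sub_eq_zero, ← sub_mul, mul_eq_zero_iff I ht, map_sub, h, sub_self]

theorem dn_pow_eq_zero (ht : IsCon I n U t) : dn I n U (t ^ (n + 1)) = 0 := by
  choose W hW f u hxW hf hu ht' using fun x : {x : X // x ∈ U ∧ x ∈ I.support} => ht x.1 x.2.1 x.2.2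
  refine r_injective_of_cover I (fun x => (W x).1) hW (preimage_le_iSup I n _ hxW) _ 0 fun x => ?_
  rw [map_zero, ← dn_r, map_pow, ht' x, ← map_pow, dn_pr, pr_eq_zero_iff, (hf x).1, mul_pow]
  exact Ideal.mul_mem_left _ _ (Ideal.pow_mem_pow (Ideal.mem_span_singleton_self _) _)

theorem exists_eq_mul_pow (hU : IsAffineOpen (nι I 0 ⁻¹ᵁ U)) (ht : IsCon I n U t) (s : T I (n + 1) U)
    (hs : dn I n U s = 0) : ∃ c, s = c * t ^ (n + 1) := by
  choose W hW f u hxW hf hu ht' using fun x : {x : X // x ∈ U ∧ x ∈ I.support} => ht x.1 x.2.1 x.2.2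
  have hloc : ∀ x, ∃ c : T I (n + 1) (W x).1, r I (hW x) s = c * r I (hW x) t ^ (n + 1) := fun x => by
    obtain ⟨s', hs'⟩ := pr_surjective I (n + 1) (W x) (r I (hW x) s)
    have h0 : pr I n (W x).1 s' = 0 := by rw [← dn_pr, hs', dn_r, hs, map_zero]
    rw [pr_eq_zero_iff, (hf x).1, Ideal.span_singleton_pow, Ideal.mem_span_singleton'] at h0
    obtain ⟨d, hd⟩ := h0
    obtain ⟨v, hv⟩ := ((isUnit_of_bot I (n + 1) (W x) _ (hu x)).pow (n + 1)).exists_right_inv
    refine ⟨pr I (n + 1) (W x).1 d * v, ?_⟩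
    rw [← hs', ← hd, ht' x, map_mul, map_mul, map_pow, mul_pow]
    linear_combination -(pr I (n + 1) (W x).1 d * pr I (n + 1) (W x).1 (f x) ^ (n + 1)) * hv
  choose c hc using hloc
  obtain ⟨γ, hγ, -⟩ := (nb I 0).sheaf.existsUnique_gluing' (fun x => nι I 0 ⁻¹ᵁ (W x).1) (nι I 0 ⁻¹ᵁ U)
    (fun x => homOfLE ((nι I 0).preimage_mono (hW x))) (preimage_le_iSup I 0 _ hxW)
    (fun x => bot I (n + 1) (W x).1 (c x)) (fun x y => by
      show r I (inf_le_left : (W x).1 ⊓ (W y).1 ≤ (W x).1) (bot I (n + 1) _ (c x)) =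
        r I (inf_le_right : (W x).1 ⊓ (W y).1 ≤ (W y).1) (bot I (n + 1) _ (c y))
      have hle : (W x).1 ⊓ (W y).1 ≤ U := inf_le_left.trans (hW x)
      rw [← bot_r, ← bot_r, ← sub_eq_zero, ← map_sub, ← mul_eq_zero_iff I (ht.restrict I hle), sub_mul, sub_eq_zero]
      have h1 := congrArg (r I (inf_le_left : (W x).1 ⊓ (W y).1 ≤ (W x).1)) (hc x)
      have h2 := congrArg (r I (inf_le_right : (W x).1 ⊓ (W y).1 ≤ (W y).1)) (hc y)
      rw [r_r, map_mul, map_pow, r_r] at h1 h2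
      exact h1.symm.trans h2)
  obtain ⟨c₀, hc₀⟩ := bot_surjective I (n + 1) hU γ
  refine ⟨c₀, r_injective_of_cover I (fun x => (W x).1) hW (preimage_le_iSup I (n + 1) _ hxW) _ _ fun x => ?_⟩
  rw [hc x, map_mul, map_pow]
  refine mul_pow_congr I (ht.restrict I (hW x)) ?_
  rw [bot_r, hc₀]
  exact (hγ x).symm

end Groth.Agent.ExcCompl
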