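import Groth.Agent.ExcCompl.Charts

/-!
The graded ring of the limit is the polynomial ring in two variables.
-/

set_option autoImplicit false
set_option backward.isDefEq.respectTransparency false
set_option backward.isDefEq.respectTransparency.types false
set_option linter.style.haveILetI false

universe u

open CategoryTheory CategoryTheory.Limits AlgebraicGeometry TopologicalSpace Opposite Polynomial

noncomputable section

namespace Groth.Agent.ExcCompl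

theorem exists_seq : ∀ (n : ℕ) {M : ℕ → Type u} (f : ∀ n, M (n + 1) → M n) (_ : ∀ n, Function.Surjective (f n))
    (y : M n), ∃ x : ∀ n, M n, (∀ m, f m (x (m + 1)) = x m) ∧ x n = y
  | 0, M, f, hf, y => by
    choose g hg using hf
    exact ⟨fun m => Nat.rec (motive := fun m => M m) y (fun m a => g m a) m, fun m => hg m _, rfl⟩
  | n + 1, M, f, hf, y => by
    obtain ⟨x, hx, hxy⟩ := exists_seq n (M := fun m => M (m + 1)) (fun m => f (m + 1)) (fun m => hf (m + 1)) y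
    refine ⟨fun m => Nat.casesOn (motive := fun m => M m) m (f 0 (x 0)) x, fun m => ?_, hxy⟩
    cases m with
    | zero => rfl
    | succ m => exact hx m

variable {X : Scheme.{u}} {I : X.IdealSheafData} {k : Type u} [Field k] (D : LineData I k)

/-- The first chart. -/
abbrev LineData.c₀ : Chart I k where
  U := D.U₀
  aff := D.aff₀
  π := D.π₀
  bij := D.bij₀
  t := D.t₀
  con := D.con₀

/-- The second chart. -/
abbrev LineData.c₁ : Chart I k where
  U := D.U₁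
  aff := D.aff₁
  π := D.π₁
  bij := D.bij₁
  t := D.t₁
  con := D.con₁

include D in
theorem LineData.preimage_le (n : ℕ) (U : X.Opens) :
    nι I n ⁻¹ᵁ U ≤ nι I n ⁻¹ᵁ D.U₀ ⊔ nι I n ⁻¹ᵁ D.U₁ := fun z _ =>
  D.cover ((range_nι I n).subset ⟨z, rfl⟩)

theorem LineData.eq_of_charts {n : ℕ} (s t : T I n ⊤) (h₀ : r I (le_top : D.U₀ ≤ ⊤) s = r I le_top t)
    (h₁ : r I (le_top : D.U₁ ≤ ⊤) s = r I le_top t) : s = t := by
  refine r_injective_of_cover I (fun b : Bool => bif b then D.U₀ else D.U₁) (fun _ => le_top) ?_ s t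
    (Bool.rec h₁ h₀)
  exact (D.preimage_le n ⊤).trans (sup_le (le_iSup (fun b : Bool => nι I n ⁻¹ᵁ (bif b then D.U₀ else D.U₁)) true)
    (le_iSup (fun b : Bool => nι I n ⁻¹ᵁ (bif b then D.U₀ else D.U₁)) false))

theorem LineData.tau_pow (n : ℕ) (w : T I n (D.U₀ ⊓ D.U₁)) (hw : bot I n _ w = D.Wc) :
    r I (inf_le_left : D.U₀ ⊓ D.U₁ ≤ D.U₀) (D.c₀.τ n) ^ n =
      w ^ n * r I (inf_le_right : D.U₀ ⊓ D.U₁ ≤ D.U₁) (D.c₁.τ n) ^ n := by
  cases n with
  | zero => simp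
  | succ n =>
    refine pow_congr I _ _ w ?_ ?_
    · rw [bot1_r, bot1_r, D.c₀.bot1_τ, D.c₁.bot1_τ]
      show r I _ D.t₀ = _ * r I _ D.t₁
      rw [D.trans]
      have := mul_pow_congr I (D.con₁.restrict I (inf_le_right : D.U₀ ⊓ D.U₁ ≤ D.U₁))
        (c := D.w) (c' := bot1 I n _ w) (D.bot_w.trans (hw.symm.trans (bot_bot1 I n _ w).symm))
      simpa using this
    · rw [bot_r, D.c₁.bot_τ, map_zero]

include D in
theorem LineData.dn_top_surjective (n : ℕ) : Function.Surjective (dn I n (⊤ : X.Opens)) := by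
  intro s
  obtain ⟨s₀, hs₀⟩ := dn_surjective I n D.aff₀ (r I le_top s)
  obtain ⟨s₁, hs₁⟩ := dn_surjective I n D.aff₁ (r I le_top s)
  obtain ⟨c, hc⟩ := exists_eq_mul_pow I D.aff₀₁ ((D.c₁.con_τ n).restrict I inf_le_right)
    (r I (inf_le_left : D.U₀ ⊓ D.U₁ ≤ D.U₀) s₀ - r I inf_le_right s₁) (by
      rw [map_sub, dn_r, dn_r, hs₀, hs₁, r_r, r_r, sub_self])
  obtain ⟨p, q, hpq⟩ := D.split (n + 1) (bot I (n + 1) _ c)
  obtain ⟨P, hP⟩ := bot_surjective I (n + 1) D.aff₀ (D.π₀ p)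
  obtain ⟨Q, hQ⟩ := bot_surjective I (n + 1) D.aff₁ (D.π₁ q)
  obtain ⟨w, hw⟩ := bot_surjective I (n + 1) D.aff₀₁ D.Wc
  obtain ⟨g, hg₀, hg₁⟩ := exists_glue_two I (U := ⊤) le_top le_top (D.preimage_le (n + 1) ⊤)
    (s₀ - P * D.c₀.τ (n + 1) ^ (n + 1)) (s₁ - Q * D.c₁.τ (n + 1) ^ (n + 1)) (by
      rw [map_sub, map_sub, map_mul, map_mul, map_pow, map_pow]
      erw [D.tau_pow (n + 1) w hw]
      refine sub_eq_zero.1 ?_
      have h0 : (c - r I inf_le_left P * w ^ (n + 1) + r I inf_le_right Q) *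
          r I (inf_le_right : D.U₀ ⊓ D.U₁ ≤ D.U₁) (D.c₁.τ (n + 1)) ^ (n + 1) = 0 := by
        refine (mul_eq_zero_iff I ((D.c₁.con_τ n).restrict I inf_le_right) _).2 ?_
        rw [map_add, map_sub, map_mul, map_pow, bot_r, bot_r, hP, hQ, hw, D.r_π₀, D.r_π₁, hpq]
        ring
      refine Eq.trans ?_ h0
      rw [add_mul, sub_mul, ← hc, mul_assoc]
      abel)
  refine ⟨g, D.eq_of_charts _ _ ?_ ?_⟩
  · rw [← dn_r, hg₀, map_sub, map_mul, hs₀]
    erw [dn_pow_eq_zero I (D.c₀.con_τ n)]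
    rw [mul_zero, sub_zero]
  · rw [← dn_r, hg₁, map_sub, map_mul, hs₁]
    erw [dn_pow_eq_zero I (D.c₁.con_τ n)]
    rw [mul_zero, sub_zero]

include D in
theorem LineData.φ_surjective (n : ℕ) : Function.Surjective (φ I n) := fun y => by
  obtain ⟨x, hx, hxy⟩ := exists_seq n (M := fun m => T I m ⊤) (fun m => dn I m ⊤) D.dn_top_surjective y
  exact ⟨⟨x, hx⟩, hxy⟩

theorem LineData.mem_K_succ {n : ℕ} {c : lim I} (h₀ : ρ I D.U₀ n c = 0) (h₁ : ρ I D.U₁ n c = 0) : c ∈ K I (n + 1) :=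
  D.eq_of_charts _ _ (h₀.trans (map_zero _).symm) (h₁.trans (map_zero _).symm)

/-- Leading terms on the two charts are compatible. -/
theorem LineData.identity {n : ℕ} {c : lim I} {p q : k[X]} (h₀ : D.c₀.Lead n c p) (h₁ : D.c₁.Lead n c q) :
    p.eval₂ D.cst D.Zc * D.Wc ^ n = q.eval₂ D.cst D.Wc := by
  obtain ⟨P, hP, hP'⟩ := h₀ n le_rfl
  obtain ⟨Q, hQ, hQ'⟩ := h₁ n le_rfl
  obtain ⟨w, hw⟩ := bot_surjective I n D.aff₀₁ D.Wc
  have h2 : r I (inf_le_left : D.U₀ ⊓ D.U₁ ≤ D.U₀) (P * D.c₀.τ n ^ n) =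
      r I (inf_le_right : D.U₀ ⊓ D.U₁ ≤ D.U₁) (Q * D.c₁.τ n ^ n) := by
    rw [← hP', ← hQ']
    show r I _ (r I le_top (φ I n c)) = r I _ (r I le_top (φ I n c))
    rw [r_r, r_r]
  rw [map_mul, map_mul, map_pow, map_pow] at h2
  erw [D.tau_pow n w hw] at h2
  rw [← sub_eq_zero, ← mul_assoc, ← sub_mul] at h2
  have h3 : bot I n _ (r I inf_le_left P * w ^ n - r I inf_le_right Q) = 0 := by
    cases n with
    | zero =>
      simp only [pow_zero, mul_one] at h2 ⊢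
      exact h2
    | succ n => exact (mul_eq_zero_iff I ((D.c₁.con_τ n).restrict I inf_le_right) _).1 h2
  rw [map_sub, map_mul, map_pow, bot_r, bot_r, hP, hQ, hw, sub_eq_zero] at h3
  show p.eval₂ D.cst D.Zc * D.Wc ^ n = q.eval₂ D.cst D.Wc
  rw [← D.r_π₀, ← D.r_π₁]
  exact h3

theorem LineData.lead_facts {n : ℕ} {c : lim I} {p : k[X]} (hc : c ∈ K I n) (h : D.c₀.Lead n c p) :
    p.natDegree ≤ n ∧ (p = 0 → c ∈ K I (n + 1)) := by
  obtain ⟨q, hq⟩ := D.c₁.exists_lead hc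
  have h2 := D.degree_le (D.identity h hq)
  exact ⟨h2.1, fun hp => D.mem_K_succ (h.eq_zero_iff.2 hp) (hq.eq_zero_iff.2 (h2.2 hp))⟩

include D in
theorem LineData.K_mul {n m : ℕ} {c d : lim I} (hc : c ∈ K I n) (hd : d ∈ K I m) : c * d ∈ K I (n + m) := by
  rcases Nat.eq_zero_or_pos (n + m) with h | h
  · rw [h]; trivial
  obtain ⟨j, hj⟩ := Nat.exists_eq_add_one.2 h
  obtain ⟨p, hp⟩ := D.c₀.exists_lead hc
  obtain ⟨p', hp'⟩ := D.c₀.exists_lead hd
  obtain ⟨q, hq⟩ := D.c₁.exists_lead hc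
  obtain ⟨q', hq'⟩ := D.c₁.exists_lead hd
  have h₀ := hp.mul hp'
  have h₁ := hq.mul hq'
  rw [hj] at h₀ h₁ ⊢
  exact D.mem_K_succ h₀.below h₁.below

theorem LineData.exists_elem (n : ℕ) (p q : k[X]) (h : p.eval₂ D.cst D.Zc * D.Wc ^ n = q.eval₂ D.cst D.Wc) :
    ∃ c ∈ K I n, D.c₀.Lead n c p := by
  obtain ⟨P, hP⟩ := bot_surjective I n D.aff₀ (D.π₀ p)
  obtain ⟨Q, hQ⟩ := bot_surjective I n D.aff₁ (D.π₁ q)
  obtain ⟨w, hw⟩ := bot_surjective I n D.aff₀₁ D.Wc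
  obtain ⟨g, hg₀, hg₁⟩ := exists_glue_two I (U := ⊤) le_top le_top (D.preimage_le n ⊤)
    (P * D.c₀.τ n ^ n) (Q * D.c₁.τ n ^ n) (by
      rw [map_mul, map_mul, map_pow, map_pow]
      erw [D.tau_pow n w hw]
      rw [← mul_assoc]
      cases n with
      | zero =>
        have h3 : r I inf_le_left P = r I (inf_le_right : D.U₀ ⊓ D.U₁ ≤ D.U₁) Q := by
          change P = D.π₀ p at hP
          change Q = D.π₁ q at hQ
          rw [hP, hQ, D.r_π₀, D.r_π₁, ← h, pow_zero, mul_one]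
        simp only [pow_zero, mul_one]
        exact h3
      | succ n =>
        refine mul_pow_congr I ((D.c₁.con_τ n).restrict I inf_le_right) ?_
        rw [map_mul, map_pow, bot_r, bot_r, hP, hQ, hw, D.r_π₀, D.r_π₁, h])
  obtain ⟨c, rfl⟩ := D.φ_surjective n g
  refine ⟨c, ?_, D.c₀.lead_of_eq P hP hg₀⟩
  cases n with
  | zero => trivial
  | succ n =>
    refine D.mem_K_succ ?_ ?_
    · exact Chart.Lead.below (C := D.c₀) (D.c₀.lead_of_eq P hP hg₀)
    · exact Chart.Lead.below (C := D.c₁) (D.c₁.lead_of_eq Q hQ hg₁)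

theorem LineData.exists_gens : ∃ a b : lim I, a ∈ K I 1 ∧ b ∈ K I 1 ∧ D.c₀.Lead 1 a 1 ∧ D.c₀.Lead 1 b Polynomial.X := by
  obtain ⟨a, ha, ha'⟩ := D.exists_elem 1 1 Polynomial.X (by simp)
  obtain ⟨b, hb, hb'⟩ := D.exists_elem 1 Polynomial.X 1 (by simp [D.mul_eq])
  exact ⟨a, b, ha, hb, ha', hb'⟩

theorem LineData.exists_const (c : k) : ∃ x : lim I, D.c₀.Lead 0 x (Polynomial.C c) := by
  obtain ⟨x, -, hx⟩ := D.exists_elem 0 (Polynomial.C c) (Polynomial.C c) (by simp)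
  exact ⟨x, hx⟩

theorem LineData.step {a b : lim I} (ha : a ∈ K I 1) (hb : b ∈ K I 1) (ha' : D.c₀.Lead 1 a 1)
    (hb' : D.c₀.Lead 1 b Polynomial.X) {n : ℕ} {c : lim I} (hc : c ∈ K I n) :
    ∃ d ∈ Ideal.span {a, b} ^ n, c - d ∈ K I (n + 1) := by
  have hpow : ∀ {x : lim I}, x ∈ K I 1 → ∀ j, x ^ j ∈ K I j := fun {x} hx j => by
    induction j with
    | zero => trivial
    | succ j ih => rw [pow_succ]; exact D.K_mul ih hx
  obtain ⟨p, hp⟩ := D.c₀.exists_lead hc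
  have hdeg := (D.lead_facts hc hp).1
  choose e he using D.exists_const
  let d := ∑ j ∈ Finset.range (n + 1), e (p.coeff j) * (b ^ j * a ^ (n - j))
  have hterm : ∀ j ∈ Finset.range (n + 1), D.c₀.Lead n (e (p.coeff j) * (b ^ j * a ^ (n - j)))
      (Polynomial.C (p.coeff j) * Polynomial.X ^ j) ∧ b ^ j * a ^ (n - j) ∈ Ideal.span {a, b} ^ n ∧
      e (p.coeff j) * (b ^ j * a ^ (n - j)) ∈ K I n := fun j hj => by
    have hj' : j ≤ n := Nat.lt_succ_iff.1 (Finset.mem_range.1 hj)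
    refine ⟨?_, ?_, ?_⟩
    · have := (he (p.coeff j)).mul ((hb'.pow j).mul (ha'.pow (n - j)))
      rwa [one_pow, mul_one, Nat.one_mul, Nat.one_mul, Nat.zero_add, Nat.add_sub_cancel' hj'] at this
    · have := Ideal.mul_mem_mul (Ideal.pow_mem_pow (Ideal.subset_span (show b ∈ ({a, b} : Set (lim I)) from Or.inr rfl)) j)
        (Ideal.pow_mem_pow (Ideal.subset_span (show a ∈ ({a, b} : Set (lim I)) from Or.inl rfl)) (n - j))
      rwa [← pow_add, Nat.add_sub_cancel' hj'] at this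
    · have := D.K_mul (hpow hb j) (hpow ha (n - j))
      rw [Nat.add_sub_cancel' hj'] at this
      exact Ideal.mul_mem_left _ _ this
  refine ⟨d, Ideal.sum_mem _ fun j hj => Ideal.mul_mem_left _ _ (hterm j hj).2.1, ?_⟩
  have hd : D.c₀.Lead n d (∑ j ∈ Finset.range (n + 1), Polynomial.C (p.coeff j) * Polynomial.X ^ j) :=
    Finset.induction_on' (Finset.range (n + 1)) (motive := fun s =>
      D.c₀.Lead n (∑ j ∈ s, e (p.coeff j) * (b ^ j * a ^ (n - j)))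
        (∑ j ∈ s, Polynomial.C (p.coeff j) * Polynomial.X ^ j))
      (by simp only [Finset.sum_empty]; exact Chart.lead_zero n)
      (fun {i s} hj _ hni ih => by rw [Finset.sum_insert hni, Finset.sum_insert hni]; exact ((hterm i hj).1).add ih)
  have hsum := p.as_sum_range_C_mul_X_pow' (n := n + 1) (Nat.lt_succ_of_le hdeg)
  rw [← hsum] at hd
  exact (D.lead_facts (sub_mem hc (Ideal.sum_mem _ fun j hj => (hterm j hj).2.2)) (hp.sub hd)).2 (sub_self p)

end Groth.Agent.ExcCompl
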