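import Groth.Agent.ExcCompl.Graded
import Groth.Agent.AdicLim.Basic
import Groth.Agent.AdicLim.Noetherian
import Mathlib.RingTheory.AdicCompletion.LocalRing
import Mathlib.RingTheory.RegularLocalRing.Defs
import Mathlib.RingTheory.Ideal.KrullsHeightTheorem

/-!
The completion along an exceptional curve of the first kind is a regular local ring of dimension two.
-/

set_option autoImplicit false
set_option backward.isDefEq.respectTransparency false
set_option backward.isDefEq.respectTransparency.types false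
set_option linter.style.haveILetI false

universe u

open CategoryTheory CategoryTheory.Limits AlgebraicGeometry TopologicalSpace Opposite Polynomial

noncomputable section

namespace Groth.Agent.ExcCompl

variable {X : Scheme.{u}} {I : X.IdealSheafData} {k : Type u} [Field k] (D : LineData I k)

include D in
theorem LineData.separated (x : lim I) (h : ∀ n, x ∈ K I n) : x = 0 :=
  Subtype.ext (funext fun n => RingHom.mem_ker.1 (h (n + 1)))

theorem series (s : ℕ → lim I) (hs : ∀ n, s n ∈ K I n) :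
    ∃ y, ∀ N, y - ∑ j ∈ Finset.range N, s j ∈ K I N := by
  refine ⟨⟨fun n => ∑ j ∈ Finset.range (n + 1), φ I n (s j), fun n => ?_⟩, fun N => ?_⟩
  · rw [map_sum, Finset.sum_range_succ _ (n + 1), dn_φ, show φ I n (s (n + 1)) = 0 from hs (n + 1), add_zero]
    exact Finset.sum_congr rfl fun j _ => dn_φ I n (s j)
  · cases N with
    | zero => trivial
    | succ n =>
      refine RingHom.mem_ker.2 ?_
      rw [map_sub, map_sum]
      exact sub_self _

include D in
theorem LineData.main : ∃ (a b : lim I), IsAdicComplete (Ideal.span {a, b}) (lim I) ∧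
    (∀ n, K I n = Ideal.span {a, b} ^ n) ∧ IsRegularLocalRing (lim I) ∧ ringKrullDim (lim I) = 2 ∧
    (Ideal.span {a, b} : Ideal (lim I)).IsMaximal := by
  obtain ⟨a, b, ha, hb, ha', hb'⟩ := D.exists_gens
  set J := Ideal.span ({a, b} : Set (lim I)) with hJdef
  have hJK : J ≤ K I 1 := Ideal.span_le.2 (by rintro _ (rfl | rfl) <;> assumption)
  have hpowK : ∀ n, J ^ n ≤ K I n := fun n => by
    induction n with
    | zero => exact le_top
    | succ n ih =>
      rw [pow_succ, Ideal.mul_le]
      exact fun x hx y hy => D.K_mul (ih hx) (hJK hy)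
  have hF : AdicLim.IsStepFiltration J (L := lim I) (fun n => K I n) :=
    { zero := rfl
      anti := K_anti I
      pow_le := fun n => by rw [smul_eq_mul, Ideal.mul_top]; exact hpowK n
      step := fun n c hc => by
        obtain ⟨d, hd, hd'⟩ := D.step ha hb ha' hb' hc
        rw [smul_eq_mul, Ideal.mul_top]
        exact Submodule.mem_sup.2 ⟨d, hd, c - d, hd', add_sub_cancel _ _⟩
      separated := D.separated
      series := series }
  have hJfg : J.FG := Submodule.fg_span ((Set.finite_singleton b).insert a)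
  have hK : ∀ n, K I n = J ^ n := fun n => by
    rw [hF.eq_pow_smul_of_fg hJfg n, smul_eq_mul, Ideal.mul_top]
  have hc : IsAdicComplete J (lim I) := hF.isAdicComplete fun n => hF.eq_pow_smul_of_fg hJfg n
  choose e he using D.exists_const
  have hdeg0 : ∀ {x : lim I} {p : k[X]}, D.c₀.Lead 0 x p → p = Polynomial.C (p.coeff 0) := fun {x p} h =>
    Polynomial.eq_C_of_natDegree_le_zero (D.lead_facts (n := 0) trivial h).1
  have hmax : J.IsMaximal := by
    rw [show J = K I 1 from ((hK 1).trans (pow_one J)).symm, Ideal.isMaximal_iff]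
    refine ⟨fun h1 => ?_, fun M x hM hx hxM => ?_⟩
    · have h2 : ρ I D.c₀.U 0 (1 : lim I) = 0 := by
        show r I _ (φ I 0 1) = 0
        rw [RingHom.mem_ker.1 h1, map_zero]
      exact one_ne_zero ((Chart.lead_one (C := D.c₀)).eq_zero_iff.1 h2)
    · obtain ⟨p, hp⟩ := D.c₀.exists_lead (n := 0) (c := x) trivial
      obtain ⟨c, rfl⟩ : ∃ c, p = Polynomial.C c := ⟨_, hdeg0 hp⟩
      have hc0 : c ≠ 0 := fun h => hx ((D.lead_facts (n := 0) trivial hp).2 (by rw [h, map_zero]))
      have h1 := hp.mul (he c⁻¹)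
      rw [← map_mul, mul_inv_cancel₀ hc0, map_one, Nat.add_zero] at h1
      have h2 : x * e c⁻¹ - 1 ∈ K I 1 :=
        (D.lead_facts (n := 0) trivial (h1.sub Chart.lead_one)).2 (sub_self _)
      have := M.sub_mem (M.mul_mem_right (e c⁻¹) hxM) (hM h2)
      rwa [sub_sub_cancel] at this
  haveI := hc
  haveI := hmax
  haveI hloc : IsLocalRing (lim I) := isLocalRing_of_isAdicComplete_maximal J
  haveI : IsNoetherianRing (lim I ⧸ J) := by
    letI := Ideal.Quotient.field J
    infer_instance
  haveI : IsNoetherianRing (lim I) := AdicLim.isNoetherianRing_of_isAdicComplete hJfg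
  have hord : ∀ x : lim I, x ≠ 0 → ∃ n p, x ∈ K I n ∧ D.c₀.Lead n x p ∧ p ≠ 0 := fun x hx => by
    classical
    obtain ⟨n, hn, hn'⟩ : ∃ n, x ∈ K I n ∧ x ∉ K I (n + 1) := by
      by_contra hcon
      push Not at hcon
      exact hx (D.separated x fun n => Nat.rec trivial (fun n ih => hcon n ih) n)
    obtain ⟨p, hp⟩ := D.c₀.exists_lead hn
    exact ⟨n, p, hn, hp, fun h => hn' ((D.lead_facts hn hp).2 h)⟩
  have horder : ∀ {n m : ℕ} {x : lim I} {p : k[X]}, D.c₀.Lead n x p → x ∈ K I m → p ≠ 0 → m ≤ n := by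
    intro n m x p hp hm hp0
    by_contra hlt
    push Not at hlt
    refine hp0 (hp.eq_zero_iff.1 ?_)
    show r I _ (φ I n x) = 0
    rw [RingHom.mem_ker.1 (K_anti I (Nat.succ_le_of_lt hlt) hm), map_zero]
  haveI : Nontrivial (lim I) := inferInstance
  haveI : NoZeroDivisors (lim I) := ⟨fun {x y} hxy => by
    by_contra hcon
    push Not at hcon
    obtain ⟨n, p, -, hp, hp0⟩ := hord x hcon.1
    obtain ⟨m, q, -, hq, hq0⟩ := hord y hcon.2
    have h := hp.mul hq
    rw [hxy] at h
    exact mul_ne_zero hp0 hq0 (h.unique (Chart.lead_zero _))⟩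
  haveI : IsDomain (lim I) := NoZeroDivisors.to_isDomain _
  have hbJ : b ∈ J := Ideal.subset_span (show b ∈ ({a, b} : Set (lim I)) from Or.inr rfl)
  have hbK : ∀ N, b ^ N ∈ K I N := fun N => hpowK N (Ideal.pow_mem_pow hbJ N)
  have hbLead : ∀ N, D.c₀.Lead N (b ^ N) (Polynomial.X ^ N) := fun N => by simpa using hb'.pow N
  have hab : ∀ N, b ^ N ∉ Ideal.span ({a} : Set (lim I)) := fun N hN => by
    obtain ⟨x, hx⟩ := Ideal.mem_span_singleton'.1 hN
    have hx0 : x ≠ 0 := fun h => by
      have h2 := hbLead N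
      rw [← hx, h, zero_mul] at h2
      exact pow_ne_zero N Polynomial.X_ne_zero (h2.unique (Chart.lead_zero _))
    obtain ⟨j, p, hj, hp, hp0⟩ := hord x hx0
    have h1 := hp.mul ha'
    rw [mul_one, hx] at h1
    have h1K : b ^ N ∈ K I (j + 1) := hx ▸ D.K_mul hj ha
    have hNj : N = j + 1 :=
      le_antisymm (horder h1 (hbK N) hp0) (horder (hbLead N) h1K (pow_ne_zero N Polynomial.X_ne_zero))
    subst hNj
    have h3 := h1.unique (hbLead (j + 1))
    have h4 := (D.lead_facts hj hp).1
    rw [h3, Polynomial.natDegree_X_pow] at h4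
    omega
  have hJm : J = IsLocalRing.maximalIdeal (lim I) := IsLocalRing.eq_maximalIdeal hmax
  have ha0 : a ≠ 0 := fun h => by
    rw [h] at ha'
    exact one_ne_zero (ha'.unique (Chart.lead_zero _))
  obtain ⟨P, hP, haP, hbP⟩ : ∃ P : Ideal (lim I), P.IsPrime ∧ a ∈ P ∧ b ∉ P := by
    have h1 : b ∉ (Ideal.span ({a} : Set (lim I))).radical := fun ⟨N, hN⟩ => hab N hN
    rw [Ideal.radical_eq_sInf, Submodule.mem_sInf] at h1
    push Not at h1
    obtain ⟨P, ⟨hle, hP⟩, hbP⟩ := h1
    exact ⟨P, hP, hle (Ideal.mem_span_singleton_self a), hbP⟩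
  have hdim : (2 : WithBot ℕ∞) ≤ ringKrullDim (lim I) := by
    let p₀ : PrimeSpectrum (lim I) := ⟨⊥, Ideal.isPrime_bot⟩
    let p₁ : PrimeSpectrum (lim I) := ⟨P, hP⟩
    let p₂ : PrimeSpectrum (lim I) := ⟨J, hmax.isPrime⟩
    have h01 : p₀ < p₁ := lt_of_le_of_ne (show (⊥ : Ideal (lim I)) ≤ P from bot_le) fun h =>
      ha0 (Ideal.mem_bot.1 ((congrArg PrimeSpectrum.asIdeal h).ge haP))
    have h12 : p₁ < p₂ := lt_of_le_of_ne
      (show P ≤ J from hJm.symm ▸ IsLocalRing.le_maximalIdeal hP.ne_top) fun h =>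
      hbP ((congrArg PrimeSpectrum.asIdeal h).ge (Ideal.subset_span (Or.inr rfl)))
    exact Order.LTSeries.length_le_krullDim (((RelSeries.singleton _ p₀).snoc p₁ h01).snoc p₂ (by simpa using h12))
  have hspan : (IsLocalRing.maximalIdeal (lim I)).spanFinrank ≤ 2 := by
    rw [← hJm, hJdef, Ideal.span]
    refine (Submodule.spanFinrank_span_le_ncard_of_finite ((Set.finite_singleton b).insert a)).trans ?_
    exact (Set.ncard_insert_le a {b}).trans (by simp)
  have hdim' : ringKrullDim (lim I) = 2 :=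
    le_antisymm ((ringKrullDim_le_spanFinrank_maximalIdeal _).trans (by exact_mod_cast hspan)) hdim
  have hreg : IsRegularLocalRing (lim I) := by
    rw [isRegularLocalRing_iff, hdim']
    refine le_antisymm (by exact_mod_cast hspan) ?_
    rw [← hdim']
    exact ringKrullDim_le_spanFinrank_maximalIdeal _
  exact ⟨a, b, hc, hK, hreg, hdim', hmax⟩

end Groth.Agent.ExcCompl
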