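import Groth.Agent.NilAffine.Main
import Mathlib.AlgebraicGeometry.IdealSheaf.Functorial

/-!
The tower of infinitesimal neighbourhoods of a closed subscheme: rings of sections, gluing, surjectivity
on affine pieces.
-/

set_option autoImplicit false
set_option backward.isDefEq.respectTransparency false
set_option backward.isDefEq.respectTransparency.types false
set_option linter.style.haveILetI false

universe u

open CategoryTheory CategoryTheory.Limits AlgebraicGeometry TopologicalSpace Opposite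

noncomputable section

namespace Groth.Agent.ExcCompl

variable {X : Scheme.{u}} (I : X.IdealSheafData)

theorem pow_succ_le (n : ℕ) : I ^ (n + 2) ≤ I ^ (n + 1) := fun U => by
  rw [Scheme.IdealSheafData.ideal_pow, Scheme.IdealSheafData.ideal_pow, Pi.pow_apply, Pi.pow_apply]
  exact Ideal.pow_le_pow_right (Nat.le_succ _)

/-- The `n`-th infinitesimal neighbourhood, cut out by `I ^ (n + 1)`. -/
abbrev nb (n : ℕ) : Scheme.{u} := (I ^ (n + 1)).subscheme

/-- Its immersion. -/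
abbrev nι (n : ℕ) : nb I n ⟶ X := (I ^ (n + 1)).subschemeι

/-- The transition. -/
abbrev incl (n : ℕ) : nb I n ⟶ nb I (n + 1) := Scheme.IdealSheafData.inclusion (pow_succ_le I n)

theorem incl_ι (n : ℕ) : incl I n ≫ nι I (n + 1) = nι I n := Scheme.IdealSheafData.inclusion_subschemeι _

instance (n : ℕ) : IsClosedImmersion (incl I n) := by
  haveI : IsClosedImmersion (incl I n ≫ nι I (n + 1)) := by rw [incl_ι]; infer_instance
  exact IsClosedImmersion.of_comp_isClosedImmersion (incl I n) (nι I (n + 1))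

/-- The functions on the part of the `n`-th neighbourhood over `U`. -/
abbrev T (n : ℕ) (U : X.Opens) : Type u := Γ(nb I n, nι I n ⁻¹ᵁ U)

/-- Restriction. -/
def r {n : ℕ} {U V : X.Opens} (h : V ≤ U) : T I n U →+* T I n V :=
  ((nb I n).presheaf.map (homOfLE ((nι I n).preimage_mono h)).op).hom

/-- From functions on `X`. -/
def pr (n : ℕ) (U : X.Opens) : Γ(X, U) →+* T I n U := ((nι I n).app U).hom

theorem preimage_eq (n : ℕ) (U : X.Opens) : incl I n ⁻¹ᵁ (nι I (n + 1) ⁻¹ᵁ U) = nι I n ⁻¹ᵁ U := by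
  rw [← incl_ι I n, Scheme.Hom.comp_preimage]

/-- Down one step. -/
def dn (n : ℕ) (U : X.Opens) : T I (n + 1) U →+* T I n U :=
  ((incl I n).appLE (nι I (n + 1) ⁻¹ᵁ U) (nι I n ⁻¹ᵁ U) (preimage_eq I n U).ge).hom

theorem r_r {n : ℕ} {U V W : X.Opens} (h : V ≤ U) (h' : W ≤ V) (s : T I n U) :
    r I h' (r I h s) = r I (h'.trans h) s := by
  simp only [r, ← CommRingCat.comp_apply, ← Functor.map_comp]
  rfl

theorem r_rfl {n : ℕ} {U : X.Opens} (h : U ≤ U) (s : T I n U) : r I h s = s :=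
  congr($(((nb I n).presheaf.map_id (op (nι I n ⁻¹ᵁ U)))).hom s)

theorem r_pr {n : ℕ} {U V : X.Opens} (h : V ≤ U) (s : Γ(X, U)) :
    r I h (pr I n U s) = pr I n V ((X.presheaf.map (homOfLE h).op).hom s) := by
  simp only [r, pr, ← CommRingCat.comp_apply, Scheme.Hom.naturality]
  rfl

theorem dn_r {n : ℕ} {U V : X.Opens} (h : V ≤ U) (s : T I (n + 1) U) :
    dn I n V (r I h s) = r I h (dn I n U s) := by
  simp only [r, dn, ← CommRingCat.comp_apply, Scheme.Hom.map_appLE, Scheme.Hom.appLE_map]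

theorem dn_pr (n : ℕ) (U : X.Opens) (s : Γ(X, U)) : dn I n U (pr I (n + 1) U s) = pr I n U s := by
  simp only [dn, pr, Scheme.Hom.app_eq_appLE, ← CommRingCat.comp_apply, Scheme.Hom.appLE_comp_appLE, incl_ι]

theorem r_injective_of_cover {n : ℕ} {U : X.Opens} {ι : Type*} (V : ι → X.Opens) (hV : ∀ j, V j ≤ U)
    (hcov : nι I n ⁻¹ᵁ U ≤ ⨆ j, nι I n ⁻¹ᵁ V j) (s t : T I n U) (h : ∀ j, r I (hV j) s = r I (hV j) t) :
    s = t :=
  (nb I n).sheaf.eq_of_locally_eq' (fun j => nι I n ⁻¹ᵁ V j) (nι I n ⁻¹ᵁ U)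
    (fun j => homOfLE ((nι I n).preimage_mono (hV j))) hcov s t h

theorem exists_glue_two {n : ℕ} {U V W : X.Opens} (hV : V ≤ U) (hW : W ≤ U)
    (hcov : nι I n ⁻¹ᵁ U ≤ nι I n ⁻¹ᵁ V ⊔ nι I n ⁻¹ᵁ W) (s : T I n V) (t : T I n W)
    (h : r I (inf_le_left : V ⊓ W ≤ V) s = r I (inf_le_right : V ⊓ W ≤ W) t) :
    ∃ g : T I n U, r I hV g = s ∧ r I hW g = t := by
  let F : Bool → X.Opens := fun b => bif b then V else W
  have hF : ∀ b, F b ≤ U := Bool.rec hW hV
  let f : ∀ b, T I n (F b) := fun b => Bool.rec (motive := fun b => T I n (F b)) t s b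
  have hc : TopCat.Presheaf.IsCompatible (nb I n).sheaf.obj (fun b => nι I n ⁻¹ᵁ F b) f := by
    intro a b
    cases a <;> cases b
    · rfl
    · have h' := congrArg (r I ((inf_comm W V).le : W ⊓ V ≤ V ⊓ W)) h
      rw [r_r, r_r] at h'
      exact h'.symm
    · exact h
    · rfl
  obtain ⟨g, hg, -⟩ := (nb I n).sheaf.existsUnique_gluing' (fun b => nι I n ⁻¹ᵁ F b) (nι I n ⁻¹ᵁ U)
    (fun b => homOfLE ((nι I n).preimage_mono (hF b))) (hcov.trans (sup_le
      (le_iSup (fun b => nι I n ⁻¹ᵁ F b) true) (le_iSup (fun b => nι I n ⁻¹ᵁ F b) false))) f hc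
  exact ⟨g, hg true, hg false⟩

theorem pr_surjective (n : ℕ) (W : X.affineOpens) : Function.Surjective (pr I n W.1) :=
  (I ^ (n + 1)).subschemeι_app_surjective W

theorem pr_eq_zero_iff (n : ℕ) (W : X.affineOpens) (s : Γ(X, W.1)) :
    pr I n W.1 s = 0 ↔ s ∈ I.ideal W ^ (n + 1) := by
  rw [← RingHom.mem_ker]
  show s ∈ RingHom.ker ((I ^ (n + 1)).subschemeι.app W).hom ↔ _
  rw [Scheme.IdealSheafData.ker_subschemeι_app, Scheme.IdealSheafData.ideal_pow]
  rfl

theorem support_eq (n : ℕ) : (I ^ (n + 1)).support = I.support := by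
  induction n with
  | zero => rw [pow_one]
  | succ n ih => rw [pow_succ, Scheme.IdealSheafData.support_mul, ih, sup_idem]

theorem range_nι (n : ℕ) : Set.range (nι I n) = (I.support : Set X) :=
  ((I ^ (n + 1)).range_subschemeι).trans (by rw [support_eq])

theorem isAffineOpen_preimage (n : ℕ) {U : X.Opens} (hU : IsAffineOpen (nι I 0 ⁻¹ᵁ U)) :
    IsAffineOpen (nι I n ⁻¹ᵁ U) := by
  induction n with
  | zero => exact hU
  | succ n ih =>
    haveI : IsAffine (incl I n ⁻¹ᵁ (nι I (n + 1) ⁻¹ᵁ U)).toScheme := by rw [preimage_eq]; exact ih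
    haveI : Surjective (incl I n ∣_ (nι I (n + 1) ⁻¹ᵁ U)) := ⟨fun z => by
      obtain ⟨w, hw⟩ : nι I (n + 1) z.1 ∈ Set.range (nι I n) := by
        rw [range_nι, ← range_nι I (n + 1)]; exact ⟨z.1, rfl⟩
      have hwz : incl I n w = z.1 := (nι I (n + 1)).isClosedEmbedding.injective
        (by rw [← Scheme.Hom.comp_apply, incl_ι]; exact hw)
      exact ⟨⟨w, show incl I n w ∈ nι I (n + 1) ⁻¹ᵁ U by rw [hwz]; exact z.2⟩, Subtype.ext (by
        show ((incl I n ∣_ (nι I (n + 1) ⁻¹ᵁ U)) ≫ Scheme.Opens.ι _) _ = _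
        rw [morphismRestrict_ι]
        exact hwz)⟩⟩
    exact NilAffine.isAffine_of_surjective (incl I n ∣_ (nι I (n + 1) ⁻¹ᵁ U))

theorem dn_surjective (n : ℕ) {U : X.Opens} (hU : IsAffineOpen (nι I 0 ⁻¹ᵁ U)) :
    Function.Surjective (dn I n U) := by
  have h := (incl I n).app_surjective _ (isAffineOpen_preimage I (n + 1) hU)
  intro t
  let t' : Γ(nb I n, incl I n ⁻¹ᵁ (nι I (n + 1) ⁻¹ᵁ U)) :=
    ((nb I n).presheaf.map (homOfLE (preimage_eq I n U).le).op).hom t
  obtain ⟨s, hs⟩ := h t'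
  refine ⟨s, ?_⟩
  have h2 := congrArg ((nb I n).presheaf.map (homOfLE (preimage_eq I n U).ge).op).hom hs
  simp only [t', ← CommRingCat.comp_apply, ← Functor.map_comp] at h2
  refine h2.trans ?_
  exact congr($(((nb I n).presheaf.map_id (op (nι I n ⁻¹ᵁ U)))).hom t)

/-- Down to the reduced level. -/
def bot : ∀ (n : ℕ) (U : X.Opens), T I n U →+* T I 0 U
  | 0, _ => RingHom.id _
  | n + 1, U => (bot n U).comp (dn I n U)

theorem bot_surjective : ∀ (n : ℕ) {U : X.Opens} (_ : IsAffineOpen (nι I 0 ⁻¹ᵁ U)),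
    Function.Surjective (bot I n U)
  | 0, _, _ => Function.surjective_id
  | n + 1, _, hU => (bot_surjective n hU).comp (dn_surjective I n hU)

theorem bot_r : ∀ (n : ℕ) {U V : X.Opens} (h : V ≤ U) (s : T I n U),
    bot I n V (r I h s) = r I h (bot I n U s)
  | 0, _, _, _, _ => rfl
  | n + 1, _, _, h, s => by
    show bot I n _ (dn I n _ _) = r I h (bot I n _ _)
    rw [dn_r, bot_r n h]

theorem bot_pr : ∀ (n : ℕ) (U : X.Opens) (s : Γ(X, U)), bot I n U (pr I n U s) = pr I 0 U s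
  | 0, _, _ => rfl
  | n + 1, U, s => by
    show bot I n U (dn I n U _) = _
    rw [dn_pr, bot_pr n U]

/-- An element which is a unit on the reduced level is a unit. -/
theorem isUnit_of_bot (n : ℕ) (W : X.affineOpens) (u : Γ(X, W.1)) (hu : IsUnit (pr I 0 W.1 u)) :
    IsUnit (pr I n W.1 u) := by
  obtain ⟨v, hv⟩ := hu.exists_right_inv
  obtain ⟨v, rfl⟩ := pr_surjective I 0 W v
  rw [← map_mul, ← map_one (pr I 0 W.1), ← sub_eq_zero, ← map_sub, pr_eq_zero_iff] at hv
  have hn : IsNilpotent (pr I n W.1 (u * v - 1)) := ⟨n + 1, by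
    rw [← map_pow, pr_eq_zero_iff]
    exact Ideal.pow_mem_pow (by simpa using hv) _⟩
  have h1 : IsUnit (pr I n W.1 u * pr I n W.1 v) := by
    rw [← map_mul, show u * v = (u * v - 1) + 1 by ring, map_add, map_one]
    exact hn.isUnit_add_one
  exact isUnit_of_mul_isUnit_left h1

end Groth.Agent.ExcCompl
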